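import Cfsg.Agent.ChevalleyStructure.RootComb
import Cfsg.Agent.ChevalleyStructure.RootWord
import Cfsg.Agent.ChevalleyStructure.RootSupport
set_option linter.all false

/-!
# The grading of the root system by the highest root

`lev D s = ⟨s, h_a⟩` for the highest root `a = nroots - 1`; table facts `Hi D β` for `β = a` and `β = -a`.
-/

set_option autoImplicit false

namespace Cfsg.Agent.H86.Lev

open Cfsg.Lie Cfsg.Agent.ChevalleyStructure Cfsg.Agent.ChevalleyStructure.RootCombGood
  Cfsg.Agent.ChevalleyStructure.RootWord Cfsg.Agent.ChevalleyStructure.RootVec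
  Cfsg.Agent.ChevalleyStructure.RootVecTab Cfsg.Agent.ChevalleyStructure.RootSupport

/-- Table facts on the grading `car D β`. -/
structure Hi (D : ChevalleyDatum) (β : ℕ) : Prop where
  lt : β < D.nroots
  low : ∀ s < D.nroots, -2 ≤ car D β s
  high : ∀ s < D.nroots, car D β s ≤ 2
  top : ∀ s < D.nroots, car D β s = 2 → s = β
  one : ∀ s < D.nroots, car D β s = 1 → ∃ e ∈ (D.chainEntry s (D.neg β)).head?,
    D.chainCoeff s (D.neg β) e.1 = [(1, e.2)] ∧ (e.2 = 1 ∨ e.2 = -1)

theorem car_add {D : ChevalleyDatum} (hc : Checked D) (β : ℕ) {u r s : ℕ} {a b : ℤ} (hu : u < D.nroots)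
    (hr : r < D.nroots) (hs : s < D.nroots) (e : ∀ i < D.rank, rt D u i = a * rt D r i + b * rt D s i) :
    car D β u = a * car D β r + b * car D β s := by
  unfold car
  rw [Finset.mul_sum, Finset.mul_sum, ← Finset.sum_add_distrib]
  refine Finset.sum_congr rfl fun k hk => ?_
  rw [cartan_of_rt hc hu hr hs e (Finset.mem_range.1 hk)]
  ring

end Cfsg.Agent.H86.Lev
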