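import Cfsg.Agent.H86.QGroup
import Cfsg.Agent.H86.LevDef
import Cfsg.Agent.H86.LevE7_mg
import Cfsg.Agent.H92.ChevFrob
import Cfsg.Agent.ChevalleyStructure.NPerm
set_option linter.all false

-- part: H86/Opp
section
/-!
# Opposite long root elements

`eq_one_of_conj` : `v ∈ Q D F β`, `v x_{-β}(t₁) v⁻¹ = x_{-β}(t₂)`, `t₁ ≠ 0` ⟹ `v = 1`.
-/

set_option autoImplicit false

namespace Cfsg.Agent.H86.Graded

open Cfsg.Lie Cfsg.Agent.ChevalleyStructure Cfsg.Agent.ChevalleyStructure.RootCombGood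
  Cfsg.Agent.ChevalleyStructure.RootWord Cfsg.Agent.ChevalleyStructure.RootVec
  Cfsg.Agent.ChevalleyStructure.RootVecTab Cfsg.Agent.ChevalleyStructure.RootSupport
  Cfsg.Agent.ChevalleyStructure.Elts Cfsg.Agent.H86.Lev

universe u

variable {D : ChevalleyDatum} {F : Type u} [Field F]

/-! ### entries -/

theorem x_inl_inl {r : ℕ} (hr : r < D.nroots) (t : F) (i i' : Fin D.rank) :
    D.x F r t (Sum.inl i) (Sum.inl i') = if i = i' then 1 else 0 := by
  rw [x_of_lt hr]; rfl

theorem x_inl_inr {r : ℕ} (hr : r < D.nroots) (t : F) (i : Fin D.rank) (s : Fin D.nroots) :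
    D.x F r t (Sum.inl i) (Sum.inr s) = if s.val = r then 0 else if s.val = D.neg r then
      ((RootCombGood.co D r i.val : ℤ) : F) * t else 0 := by
  rw [x_of_lt hr]
  show (if s = ⟨r, hr⟩ then (0 : F) else if s.val = D.neg r then
      ((RootCombGood.co D r i.val : ℤ) : F) * t else 0) = _
  by_cases h : s.val = r
  · rw [if_pos h, if_pos (Fin.ext h)]
  · rw [if_neg h, if_neg (fun e => h (congrArg Fin.val e))]

theorem x_col_self {r : ℕ} (hr : r < D.nroots) (t : F) (j : D.Idx) :
    D.x F r t j (Sum.inr ⟨r, hr⟩) = if j = Sum.inr ⟨r, hr⟩ then 1 else 0 := by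
  rw [x_of_lt hr]
  rcases j with i | u
  · show (if (⟨r, hr⟩ : Fin D.nroots) = ⟨r, hr⟩ then (0 : F) else _) = _
    rw [if_pos rfl, if_neg (by simp)]
  · show (if (⟨r, hr⟩ : Fin D.nroots) = ⟨r, hr⟩ then (if u = ⟨r, hr⟩ then (1 : F) else 0) else _) = _
    rw [if_pos rfl]
    by_cases h : u = ⟨r, hr⟩
    · rw [if_pos h, if_pos (by rw [h])]
    · rw [if_neg h, if_neg (fun e => h (Sum.inr_injective e))]

theorem x_col_neg (G : Good D) {r : ℕ} (hr : r < D.nroots) (t : F) (u : Fin D.nroots) :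
    D.x F r t (Sum.inr u) (Sum.inr ⟨D.neg r, RootWord.neg_lt G hr⟩) =
      if u.val = D.neg r then 1 else if u.val = r then -(t ^ 2) else 0 := by
  have hn := RootWord.neg_lt G hr
  have hne : (⟨D.neg r, hn⟩ : Fin D.nroots) ≠ ⟨r, hr⟩ := fun e => RootWord.neg_ne G hr (congrArg Fin.val e)
  rw [x_of_lt hr]
  show (if (⟨D.neg r, hn⟩ : Fin D.nroots) = ⟨r, hr⟩ then _ else if D.neg r = D.neg r then
      (if u = (⟨D.neg r, hn⟩ : Fin D.nroots) then (1 : F) else if u = ⟨r, hr⟩ then -(t ^ 2) else 0) else _) = _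
  rw [if_neg hne, if_pos rfl]
  by_cases h1 : u.val = D.neg r
  · rw [if_pos h1, if_pos (Fin.ext h1)]
  · rw [if_neg h1, if_neg (fun e => h1 (congrArg Fin.val e))]
    by_cases h2 : u.val = r
    · rw [if_pos h2, if_pos (Fin.ext h2)]
    · rw [if_neg h2, if_neg (fun e => h2 (congrArg Fin.val e))]

section

variable {β : ℕ}

/-- `v ∈ Q` fixes the vector of the root `β` -/
theorem Q_col_top (hD : InList D) (G : Good D) (T : Hi D β) {v : GL D.Idx F} (hv : v ∈ Q D F β) (j : D.Idx) :
    (v : Matrix D.Idx D.Idx F) j (Sum.inr ⟨β, T.lt⟩) = if j = Sum.inr ⟨β, T.lt⟩ then 1 else 0 := by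
  refine Rg.apply (Q_le_Rg hD β hv) ?_
  simp only [wl_inr, G.car_self T.lt]
  rcases j with i | u
  · simp
  · have := T.high u.val u.isLt
    simp only [wl_inr]
    omega

theorem kap_zero_of_conj (hD : InList D) (G : Good D) (T : Hi D β) {v : GL D.Idx F} (hv : v ∈ Q D F β)
    {t₁ t₂ : F} (ht : t₁ ≠ 0) (h : v * xG hD (D.neg β) t₁ = xG hD (D.neg β) t₂ * v) {s : ℕ} (hs : s < D.nroots)
    (h1 : car D β s = 1) : kap D β s (v : Matrix D.Idx D.Idx F) = 0 := by
  have hc := checked_of_mem hD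
  have hp := (pt_spec hc T hs h1).1
  have hn := RootWord.neg_lt G T.lt
  have hnn := RootWord.neg_neg G T.lt
  have hLn := car_neg_self G T.lt
  have hLp := car_pt hc G T hs h1
  have hpβ : pt D β s ≠ β := by
    intro e; rw [e, G.car_self T.lt] at hLp; norm_num at hLp
  have hpn : pt D β s ≠ D.neg β := by
    intro e; rw [e, hLn] at hLp; norm_num at hLp
  have e1 := congrArg (fun g : GL D.Idx F => (g : Matrix D.Idx D.Idx F) (Sum.inr ⟨pt D β s, hp⟩)
    (Sum.inr ⟨β, T.lt⟩)) h
  simp only [Units.val_mul, Matrix.mul_apply] at e1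
  -- right-hand side
  rw [Finset.sum_eq_single (Sum.inr ⟨β, T.lt⟩ : D.Idx) (f := fun j => ((xG hD (D.neg β) t₂ : GL D.Idx F) :
    Matrix D.Idx D.Idx F) (Sum.inr ⟨pt D β s, hp⟩) j * (v : Matrix D.Idx D.Idx F) j (Sum.inr ⟨β, T.lt⟩))
    (fun j _ hj => by rw [Q_col_top hD G T hv, if_neg hj, mul_zero])
    (fun hj => absurd (Finset.mem_univ _) hj)] at e1
  have e2 : ∀ t : F, ((xG hD (D.neg β) t : GL D.Idx F) : Matrix D.Idx D.Idx F) (Sum.inr ⟨pt D β s, hp⟩)
      (Sum.inr ⟨β, T.lt⟩) = 0 := by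
    intro t
    have := x_col_neg (F := F) G hn t ⟨pt D β s, hp⟩
    simp only [hnn] at this
    rw [coe_xG, this, if_neg hpβ, if_neg hpn]
  rw [e2, zero_mul] at e1
  rw [Finset.sum_eq_single (Sum.inr ⟨D.neg β, hn⟩ : D.Idx)] at e1
  · have e3 := x_col_neg (F := F) G hn t₁ ⟨D.neg β, hn⟩
    simp only [hnn] at e3
    rw [coe_xG, e3, if_neg (RootWord.neg_ne G T.lt), if_pos trivial] at e1
    rw [kap, dif_pos ⟨hp, hn⟩]
    rcases mul_eq_zero.1 e1 with h2 | h2
    · rw [h2, mul_zero]
    · exact absurd (neg_eq_zero.1 h2) (pow_ne_zero 2 ht)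
  · intro j _ hj
    rcases j with i | u
    · have : (v : Matrix D.Idx D.Idx F) (Sum.inr ⟨pt D β s, hp⟩) (Sum.inl i) = 0 := by
        rw [Rg.apply (Q_le_Rg hD β hv) (by simp only [wl_inr, wl_inl, hLp]; norm_num)]
        rw [if_neg (by simp)]
      rw [this, zero_mul]
    · have e3 := x_col_neg (F := F) G hn t₁ u
      simp only [hnn] at e3
      rw [coe_xG, e3]
      by_cases hu : u.val = β
      · have : (v : Matrix D.Idx D.Idx F) (Sum.inr ⟨pt D β s, hp⟩) (Sum.inr u) = 0 := by
          rw [Rg.apply (Q_le_Rg hD β hv) (by simp only [wl_inr, hLp, hu, G.car_self T.lt]; norm_num)]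
          rw [if_neg]
          intro e
          exact hpβ ((congrArg Fin.val (Sum.inr_injective e)).trans hu)
        rw [this, zero_mul]
      · rw [if_neg hu, if_neg, mul_zero]
        intro hu'
        exact hj (by rw [Sum.inr.injEq]; exact Fin.ext hu')
  · intro hj
    exact absurd (Finset.mem_univ _) hj

/-- an element of `Q` normalising `X_{-β}` on one non-trivial element is trivial -/
theorem eq_one_of_conj (hD : InList D) (G : Good D) (T : Hi D β) {v : GL D.Idx F} (hv : v ∈ Q D F β)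
    {t₁ t₂ : F} (ht : t₁ ≠ 0) (h : v * xG hD (D.neg β) t₁ = xG hD (D.neg β) t₂ * v) : v = 1 := by
  have hc := checked_of_mem hD
  have hn := RootWord.neg_lt G T.lt
  have hnn := RootWord.neg_neg G T.lt
  have hne := RootWord.neg_ne G T.lt
  obtain ⟨c, rfl⟩ := eq_top_of_kap hD G T hv (fun s hs h1 => kap_zero_of_conj hD G T hv ht h hs h1)
  have ht2 : t₂ ≠ 0 := by
    rintro rfl
    rw [xG_zero, one_mul] at h
    have := mul_left_cancel (h.trans (mul_one _).symm)
    exact ht ((xG_eq_one_iff hD hn _).1 this)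
  have key : t₂ * c ^ 2 = 0 := by
    refine UnipOrd.eq_zero_of_coroot hD hn fun i hi => ?_
    have e1 := congrArg (fun g : GL D.Idx F => (g : Matrix D.Idx D.Idx F) (Sum.inl ⟨i, hi⟩)
      (Sum.inr ⟨D.neg β, hn⟩)) h
    simp only [Units.val_mul, Matrix.mul_apply, coe_xG] at e1
    rw [Finset.sum_eq_single (Sum.inr ⟨D.neg β, hn⟩ : D.Idx) (f := fun j => D.x F β c (Sum.inl ⟨i, hi⟩) j *
      D.x F (D.neg β) t₁ j (Sum.inr ⟨D.neg β, hn⟩))
      (fun j _ hj => by rw [x_col_self hn, if_neg hj, mul_zero])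
      (fun hj => absurd (Finset.mem_univ _) hj)] at e1
    rw [x_col_self hn, if_pos rfl, mul_one, Fintype.sum_sum_type] at e1
    rw [Finset.sum_eq_single (⟨i, hi⟩ : Fin D.rank) (fun j _ hj => by
      rw [x_inl_inl hn, if_neg (Ne.symm hj), zero_mul]) (fun hj => absurd (Finset.mem_univ _) hj),
      x_inl_inl hn, if_pos rfl, one_mul] at e1
    rw [Finset.sum_eq_single (⟨β, T.lt⟩ : Fin D.nroots) (fun j _ hj => by
      rw [x_inl_inr hn, hnn]
      by_cases hjn : j.val = D.neg β
      · rw [if_pos hjn, zero_mul]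
      · rw [if_neg hjn, if_neg (fun e => hj (Fin.ext e)), zero_mul])
      (fun hj => absurd (Finset.mem_univ _) hj)] at e1
    have e2 : D.x F (D.neg β) t₂ (Sum.inl ⟨i, hi⟩) (Sum.inr ⟨β, T.lt⟩) =
        ((RootCombGood.co D (D.neg β) i : ℤ) : F) * t₂ := by
      rw [x_inl_inr hn, hnn]
      rw [if_neg (fun e : β = D.neg β => hne e.symm), if_pos rfl]
    have e3 := x_col_neg (F := F) G T.lt c ⟨β, T.lt⟩
    simp only at e3
    rw [e2, e3, if_neg (fun e : β = D.neg β => hne e.symm), if_pos trivial] at e1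
    have e4 : ((RootCombGood.co D (D.neg β) i : ℤ) : F) * t₂ * -(c ^ 2) = 0 := by
      have := e1
      linear_combination -this
    show ((RootCombGood.co D (D.neg β) i : ℤ) : F) * (t₂ * c ^ 2) = 0
    linear_combination -e4
  rcases mul_eq_zero.1 key with h1 | h1
  · exact absurd h1 ht2
  · rw [pow_eq_zero_iff (two_ne_zero)] at h1
    rw [h1, xG_zero]

end

end Cfsg.Agent.H86.Graded
end

-- part: H86/ParTab
section
/-!
# Further table facts on the highest root
-/

set_option autoImplicit false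
set_option maxHeartbeats 0

namespace Cfsg.Agent.H86.Lev

open Cfsg.Lie Cfsg.Agent.ChevalleyStructure Cfsg.Agent.ChevalleyStructure.RootCombGood

/-- `commTerms` of the highest root and a long root of level `-1` -/
def chkLong (D : ChevalleyDatum) (isL : ℕ → Bool) (s : ℕ) : Bool :=
  match D.commTerms (D.nroots - 1) s with
  | [(γ, c, i, j)] => (decide (c = 1) || decide (c = -1)) && Nat.beq i 1 && Nat.beq j 1 && isL γ && (D.commTerms s γ).isEmpty
  | _ => false

/-- Table facts on the highest root; `isL` marks the long roots. -/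
structure HiP (D : ChevalleyDatum) (isL : ℕ → Bool) : Prop where
  pos : ∀ s < D.nroots, D.nroots / 2 ≤ s → 0 ≤ car D (D.nroots - 1) s
  simp : ∀ i < D.rank, car D (D.nroots - 1) (D.simple i) = 0 → D.cartan i (D.nroots - 1) = 0
  isL_top : isL (D.nroots - 1) = true
  isL_refl : ∀ s < D.nroots, isL s = true → ∀ i < D.rank, isL (D.reflectRoot i s) = true
  long : ∀ s < D.nroots, isL s = true → car D (D.nroots - 1) s = -1 → chkLong D isL s = true
  dom : ∀ s < D.nroots, isL s = true → s ≠ D.nroots - 1 → ∃ i < D.rank, D.cartan i s < 0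

def longB2 (s : ℕ) : Bool := [0, 3, 4, 7].contains s
def longG2 (s : ℕ) : Bool := [0, 1, 5, 6, 10, 11].contains s
def longF4 (s : ℕ) : Bool :=
  [0, 1, 2, 4, 5, 6, 15, 16, 17, 21, 22, 23, 24, 25, 26, 30, 31, 32, 41, 42, 43, 45, 46, 47].contains s

end Cfsg.Agent.H86.Lev
end

-- part: H86/ParTabS
section
set_option autoImplicit false
set_option maxHeartbeats 0

namespace Cfsg.Agent.H86.Lev

open Cfsg.Lie Cfsg.Agent.ChevalleyStructure

theorem hpG2 : HiP chevG2 longG2 where
  pos := by decide +kernel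
  simp := by decide +kernel
  isL_top := by decide +kernel
  isL_refl := by decide +kernel
  long := by decide +kernel
  dom := by decide +kernel

theorem hpB2 : HiP chevB2 longB2 where
  pos := by decide +kernel
  simp := by decide +kernel
  isL_top := by decide +kernel
  isL_refl := by decide +kernel
  long := by decide +kernel
  dom := by decide +kernel

theorem hpD4 : HiP chevD4 (fun _ => true) where
  pos := by decide +kernel
  simp := by decide +kernel
  isL_top := by decide +kernel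
  isL_refl := by decide +kernel
  long := by decide +kernel
  dom := by decide +kernel

theorem hpF4 : HiP chevF4 longF4 where
  pos := by decide +kernel
  simp := by decide +kernel
  isL_top := by decide +kernel
  isL_refl := by decide +kernel
  long := by decide +kernel
  dom := by decide +kernel

theorem hpE6 : HiP chevE6 (fun _ => true) where
  pos := by decide +kernel
  simp := by decide +kernel
  isL_top := by decide +kernel
  isL_refl := by decide +kernel
  long := by decide +kernel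
  dom := by decide +kernel

end Cfsg.Agent.H86.Lev
end

-- part: H86/ParTabE7
section
set_option autoImplicit false
set_option maxHeartbeats 0

namespace Cfsg.Agent.H86.Lev

open Cfsg.Lie Cfsg.Agent.ChevalleyStructure

theorem hpE7 : HiP chevE7 (fun _ => true) where
  pos := by decide +kernel
  simp := by decide +kernel
  isL_top := by decide +kernel
  isL_refl := by decide +kernel
  long := by decide +kernel
  dom := by decide +kernel

end Cfsg.Agent.H86.Lev
end

-- part: H86/ParTabE8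
section
set_option autoImplicit false
set_option maxHeartbeats 0

namespace Cfsg.Agent.H86.Lev

open Cfsg.Lie Cfsg.Agent.ChevalleyStructure Cfsg.Agent.ChevalleyStructure.RootCombGood

theorem hpE8_pos : ∀ s < 240, 120 ≤ s → 0 ≤ carT s := by decide +kernel
theorem hpE8_simp : ∀ i < 8, carT (chevE8.simple i) = 0 → chevE8.cartan i 239 = 0 := by decide +kernel
theorem hpE8_lt : ∀ i < 8, chevE8.simple i < 240 := by decide +kernel
theorem hpE8_rank : chevE8.rank = 8 := by decide +kernel

theorem hpE8_long0 : ∀ s < 60, carT s = -1 → chkLong chevE8 (fun _ => true) s = true := by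
  decide +kernel
theorem hpE8_long1 : ∀ s < 60, carT (60 + s) = -1 → chkLong chevE8 (fun _ => true) (60 + s) = true := by
  decide +kernel
theorem hpE8_long2 : ∀ s < 60, carT (2 * 60 + s) = -1 → chkLong chevE8 (fun _ => true) (2 * 60 + s) = true := by
  decide +kernel
theorem hpE8_long3 : ∀ s < 60, carT (3 * 60 + s) = -1 → chkLong chevE8 (fun _ => true) (3 * 60 + s) = true := by
  decide +kernel
theorem hpE8_long : ∀ s < 240, carT s = -1 → chkLong chevE8 (fun _ => true) s = true :=
  range_four (P := fun s => carT s = -1 → chkLong chevE8 (fun _ => true) s = true) 60 hpE8_long0 hpE8_long1 hpE8_long2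
    hpE8_long3

theorem hpE8 : HiP chevE8 (fun _ => true) where
  pos := fun s hs h => by
    rw [nrE8] at hs h ⊢
    have e : (240 - 1 : ℕ) = 239 := rfl
    rw [e, carE8 s hs]
    exact hpE8_pos s hs h
  simp := fun i hi h => by
    rw [hpE8_rank] at hi
    rw [nrE8] at h ⊢
    have e : (240 - 1 : ℕ) = 239 := rfl
    rw [e, carE8 _ (hpE8_lt i hi)] at h
    rw [e]
    exact hpE8_simp i hi h
  isL_top := by decide +kernel
  isL_refl := by decide +kernel
  long := fun s hs _ h => by
    rw [nrE8] at hs h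
    have e : (240 - 1 : ℕ) = 239 := rfl
    rw [e, carE8 s hs] at h
    exact hpE8_long s hs h
  dom := by decide +kernel

end Cfsg.Agent.H86.Lev
end

-- part: H86/ParAll
section
/-!
# The table facts `HiP D isL` for all tabulated data
-/

set_option autoImplicit false

namespace Cfsg.Agent.H86.Lev

open Cfsg.Lie Cfsg.Agent.ChevalleyStructure

theorem exists_hip {D : ChevalleyDatum} (hD : D ∈ [chevG2, chevB2, chevD4, chevF4, chevE6, chevE7, chevE8]) :
    ∃ isL : ℕ → Bool, HiP D isL := by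
  simp only [List.mem_cons, List.mem_nil_iff, or_false] at hD
  rcases hD with rfl | rfl | rfl | rfl | rfl | rfl | rfl
  · exact ⟨_, hpG2⟩
  · exact ⟨_, hpB2⟩
  · exact ⟨_, hpD4⟩
  · exact ⟨_, hpF4⟩
  · exact ⟨_, hpE6⟩
  · exact ⟨_, hpE7⟩
  · exact ⟨_, hpE8⟩

end Cfsg.Agent.H86.Lev
end

-- part: H86/Par
section
/-!
# The parabolic subgroup normalising the highest root subgroup

`P F D = D.group F ∩ N(X_a)`, `a = nroots - 1`; its unipotent radical `Q D F a`, the opposite `Q D F 0`.
-/

set_option autoImplicit false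

namespace Cfsg.Agent.H86.Par

open Cfsg.Lie Cfsg.Agent.ChevalleyStructure Cfsg.Agent.ChevalleyStructure.RootCombGood
  Cfsg.Agent.ChevalleyStructure.RootWord Cfsg.Agent.ChevalleyStructure.RootVec
  Cfsg.Agent.ChevalleyStructure.RootVecTab Cfsg.Agent.ChevalleyStructure.RootSupport
  Cfsg.Agent.ChevalleyStructure.Elts Cfsg.Agent.ChevalleyStructure.BruhatSplit
  Cfsg.Agent.H86.Lev Cfsg.Agent.H86.Graded Cfsg.Agent.H92.ChevCent Cfsg.Agent.H92.ChevFrob

universe u

variable {D : ChevalleyDatum} {F : Type u} [Field F]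

/-- the highest root -/
abbrev top (D : ChevalleyDatum) : ℕ := D.nroots - 1

theorem good (hD : InList D) : Good D := RootComb.good_of_mem hD

theorem top_lt (hD : InList D) : top D < D.nroots := by
  have := (good hD).nroots_pos
  unfold top
  omega

theorem zero_lt (hD : InList D) : 0 < D.nroots := (good hD).nroots_pos

theorem neg_top (hD : InList D) : D.neg (top D) = 0 := by
  rw [(good hD).neg_eq (top_lt hD)]
  unfold top
  omega

theorem neg_zero (hD : InList D) : D.neg 0 = top D := by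
  rw [(good hD).neg_eq (zero_lt hD)]
  unfold top
  omega

theorem hiT (hD : InList D) : Hi D (top D) := (hi_of_mem hD).1

theorem hi0 (hD : InList D) : Hi D 0 := (hi_of_mem hD).2

theorem car0 (hD : InList D) (s : ℕ) : car D 0 s = - car D (top D) s := by
  rw [← neg_top hD, car_neg_left (good hD) (top_lt hD)]

theorem car_top (hD : InList D) : car D (top D) (top D) = 2 := (good hD).car_self (top_lt hD)

theorem car_zero (hD : InList D) : car D (top D) 0 = -2 := by
  rw [← neg_top hD, car_neg_right (good hD) _ (top_lt hD), car_top hD]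

/-- root elements of level at least zero commute with `X_β`. -/
theorem comm_hi (hD : InList D) {β : ℕ} (T : Hi D β) {r : ℕ} (hr : r < D.nroots) (h : 0 ≤ car D β r) (u t : F) :
    xG hD r u * xG hD β t = xG hD β t * xG hD r u := by
  have hc := checked_of_mem hD
  have G := good hD
  by_cases hra : r = β
  · subst hra
    rw [xG_add, xG_add, add_comm]
  · have hrn : r ≠ D.neg β := by
      rintro rfl
      rw [car_neg_right G _ T.lt, G.car_self T.lt] at h
      norm_num at h
    rw [UnipProd.xG_comm hD T.lt hr hra hrn]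
    have : D.commTerms β r = [] := by
      rw [List.eq_nil_iff_forall_not_mem]
      rintro ⟨u, C, i, j⟩ hcm
      obtain ⟨h1, h2, h3, h4, h5, h6⟩ := commTerms_rt hc hcm
      obtain ⟨-, -, -, h7⟩ := commTerms_lin hc (lin_car hc β) hcm
      simp only at h7
      rw [G.car_self T.lt] at h7
      have h8 := T.high _ h1
      have h4' : (1 : ℤ) ≤ (i : ℤ) := by exact_mod_cast h4
      have h5' : (1 : ℤ) ≤ (j : ℤ) := by exact_mod_cast h5
      have h9 : (0 : ℤ) ≤ (j : ℤ) * car D β r := mul_nonneg (by omega) h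
      have hi : (i : ℤ) = 1 := by nlinarith
      have hu : u = β := T.top u h1 (by nlinarith)
      obtain ⟨m, hm, hne⟩ := exists_rt_ne_zero hc hr
      have h10 := h6 m
      rw [hu, hi, one_mul] at h10
      have h11 : (j : ℤ) * rt D r m = 0 := by linarith
      rcases mul_eq_zero.1 h11 with h12 | h12
      · omega
      · exact hne h12
    have h2 : D.commWord F β r t u = [] := by
      unfold ChevalleyDatum.commWord
      rw [this]; rfl
    rw [h2, wordG_nil, mul_one]

/-- root elements of level at least zero commute with `X_a`. -/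
theorem comm_top0 (hD : InList D) {r : ℕ} (hr : r < D.nroots) (h : 0 ≤ car D (top D) r) (u t : F) :
    xG hD r u * xG hD (top D) t = xG hD (top D) t * xG hD r u := comm_hi hD (hiT hD) hr h u t

/-- positive roots have level at least zero -/
theorem pos_level (hD : InList D) {r : ℕ} (hr : D.IsPosRoot r) : 0 ≤ car D (top D) r := by
  obtain ⟨isL, H⟩ := exists_hip hD
  exact H.pos r hr.1 ((good hD).isPosRoot_iff.1 hr).1

theorem neg_level (hD : InList D) {r : ℕ} (hr : D.IsNegRoot r) : car D (top D) r ≤ 0 := by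
  have G := good hD
  have h := pos_level hD ((isPosRoot_neg G hr.1).2 hr)
  rw [car_neg_right G _ hr.1] at h
  omega

/-- roots of positive level are positive -/
theorem pos_of_level (hD : InList D) {r : ℕ} (hr : r < D.nroots) (h : 1 ≤ car D (top D) r) : D.IsPosRoot r := by
  rcases pos_or_neg (good hD) hr with h1 | h1
  · exact h1
  · have := neg_level hD h1
    omega

theorem pos_comm_top (hD : InList D) {u : GL D.Idx F} (hu : u ∈ D.posUnipotent F) (t : F) :
    u * xG hD (top D) t = xG hD (top D) t * u := by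
  have : D.posUnipotent F ≤ Subgroup.centralizer {xG hD (top D) t} := by
    rw [posUnipotent_le_iff hD]
    intro r hr v
    rw [Subgroup.mem_centralizer_singleton_iff]
    exact comm_top0 hD hr.1 (pos_level hD hr) v t
  exact Subgroup.mem_centralizer_singleton_iff.1 (this hu)

/-- The parabolic subgroup. -/
def P (F : Type u) [Field F] (D : ChevalleyDatum) : Subgroup (GL D.Idx F) :=
  D.group F ⊓ Subgroup.normalizer (D.rootSubgroup F (D.nroots - 1) : Set (GL D.Idx F))

theorem P_le_group : P F D ≤ D.group F := inf_le_left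

theorem mem_normalizer_of {A : Type*} [Group A] {X : Subgroup A} {g : A} (h1 : ∀ x ∈ X, g * x * g⁻¹ ∈ X)
    (h2 : ∀ x ∈ X, g⁻¹ * x * g ∈ X) : g ∈ Subgroup.normalizer (X : Set A) := by
  rw [Subgroup.mem_normalizer_iff]
  intro x
  constructor
  · exact h1 x
  · intro hx
    have := h2 _ hx
    have e : g⁻¹ * (g * x * g⁻¹) * g = x := by group
    rwa [e] at this

/-- distinct root subgroups meet trivially -/
theorem eq_of_xG_eq (hD : InList D) {r s : ℕ} (hr : r < D.nroots) (hs : s < D.nroots) {a b : F} (ha : a ≠ 0)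
    (h : xG hD r a = xG hD s b) : s = r := by
  by_contra hrs
  have h2 := congrArg (fun g : GL D.Idx F => (g : Matrix D.Idx D.Idx F) (Sum.inr ⟨r, hr⟩)
    (Sum.inr ⟨D.neg r, Cfsg.Agent.ChevalleyStructure.NPerm.neg_lt hD hr⟩)) h
  simp only [coe_xG] at h2
  rw [Cfsg.Agent.ChevalleyStructure.NPerm.x_entry_self hD hr,
    Cfsg.Agent.ChevalleyStructure.NPerm.x_entry_ne hD hr hs hrs] at h2
  rw [neg_eq_zero] at h2
  exact ha (pow_eq_zero_iff (two_ne_zero) |>.1 h2)

theorem root_conj_diag (hD : InList D) {h : GL D.Idx F} (hh : h ∈ D.diagonalSubgroup F) {s : ℕ}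
    (hs : s < D.nroots) (t : F) : ∃ t' : F, h * xG hD s t * h⁻¹ = xG hD s t' := by
  have G : Good D := good hD
  have h1 := Subgroup.mem_map_of_mem (MulAut.conj h).toMonoidHom (xG_mem_rootSubgroup hD s t)
  rw [acts_of_mem_diagonal hD G hh s hs, wact_nil] at h1
  exact (mem_rootSubgroup_iff hD s _).1 h1

theorem acts_conj (hD : InList D) {n : GL D.Idx F} {w : List ℕ} (h : Acts n w) {s : ℕ} (hs : s < D.nroots) (t : F) :
    ∃ t' : F, n * xG hD s t * n⁻¹ = xG hD (wact D w s) t' := by
  have h1 := Subgroup.mem_map_of_mem (MulAut.conj n).toMonoidHom (xG_mem_rootSubgroup hD s t)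
  rw [h s hs] at h1
  exact (mem_rootSubgroup_iff hD _ _).1 h1

theorem conj_ne (hD : InList D) {n : GL D.Idx F} {s s' : ℕ} (hs : s < D.nroots) {t t' : F} (ht : t ≠ 0)
    (h : n * xG hD s t * n⁻¹ = xG hD s' t') : t' ≠ 0 := by
  rintro rfl
  rw [xG_zero] at h
  have : xG hD s t = 1 := by
    have e : xG hD s t = n⁻¹ * (n * xG hD s t * n⁻¹) * n := by group
    rw [e, h]; group
  exact ht ((xG_eq_one_iff hD hs _).1 this)

theorem mem_P_iff (hD : InList D) {g : GL D.Idx F} (hg : g ∈ D.group F)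
    (h1 : ∀ t : F, ∃ t' : F, g * xG hD (top D) t * g⁻¹ = xG hD (top D) t')
    (h2 : ∀ t : F, ∃ t' : F, g⁻¹ * xG hD (top D) t * g = xG hD (top D) t') : g ∈ P F D := by
  refine ⟨hg, mem_normalizer_of (fun x hx => ?_) (fun x hx => ?_)⟩
  · obtain ⟨t, rfl⟩ := (mem_rootSubgroup_iff hD _ _).1 hx
    exact (mem_rootSubgroup_iff hD _ _).2 (h1 t)
  · obtain ⟨t, rfl⟩ := (mem_rootSubgroup_iff hD _ _).1 hx
    exact (mem_rootSubgroup_iff hD _ _).2 (h2 t)

theorem P_conj_top (hD : InList D) {g : GL D.Idx F} (hg : g ∈ P F D) (t : F) :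
    ∃ t' : F, g * xG hD (top D) t * g⁻¹ = xG hD (top D) t' :=
  (mem_rootSubgroup_iff hD _ _).1 ((Subgroup.mem_normalizer_iff.1 hg.2 _).1 (xG_mem_rootSubgroup hD _ t))

theorem pos_le_P (hD : InList D) : D.posUnipotent F ≤ P F D := by
  intro u hu
  refine mem_P_iff hD (posUnipotent_le_group hD F hu) (fun t => ⟨t, ?_⟩) (fun t => ⟨t, ?_⟩)
  · rw [pos_comm_top hD hu, mul_inv_cancel_right]
  · rw [mul_assoc, ← pos_comm_top hD hu, inv_mul_cancel_left]

theorem diag_le_P (hD : InList D) : D.diagonalSubgroup F ≤ P F D := by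
  intro h hh
  refine mem_P_iff hD (diagonal_le_group hD F hh) (fun t => root_conj_diag hD hh (top_lt hD) t) (fun t => ?_)
  have := root_conj_diag hD (Subgroup.inv_mem _ hh) (top_lt hD) t
  rwa [inv_inv] at this

theorem borel_le_P (hD : InList D) : D.borelSubgroup F ≤ P F D := sup_le (pos_le_P hD) (diag_le_P hD)

theorem xG_mem_P (hD : InList D) {r : ℕ} (hr : r < D.nroots) (h : 0 ≤ car D (top D) r) (t : F) :
    xG hD r t ∈ P F D := by
  refine mem_P_iff hD (xG_mem_group hD r t) (fun v => ⟨v, ?_⟩) (fun v => ⟨v, ?_⟩)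
  · rw [comm_top0 hD hr h, mul_inv_cancel_right]
  · rw [mul_assoc, ← comm_top0 hD hr h, inv_mul_cancel_left]

/-- `n ∈ N` fixing the highest root lies in `P`. -/
theorem mem_P_of_wact (hD : InList D) {n : GL D.Idx F} (hn : n ∈ D.monomialSubgroup F) {w : List ℕ}
    (hact : Acts n w) (h : wact D w (top D) = top D) : n ∈ P F D := by
  have h1 := hact _ (top_lt hD)
  rw [h] at h1
  refine ⟨monomial_le_group hD F hn, mem_normalizer_of (fun x hx => ?_) (fun x hx => ?_)⟩
  · show n * x * n⁻¹ ∈ D.rootSubgroup F (top D)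
    rw [← h1]
    exact Subgroup.mem_map_of_mem (MulAut.conj n).toMonoidHom hx
  · have hx' : x ∈ D.rootSubgroup F (top D) := hx
    rw [← h1, mem_map_conj] at hx'
    exact hx'

theorem wact_of_mem_P (hD : InList D) {n : GL D.Idx F} (hn : n ∈ P F D) {w : List ℕ} (hw : ∀ a ∈ w, a < D.rank)
    (hact : Acts n w) : wact D w (top D) = top D := by
  obtain ⟨t, ht⟩ := P_conj_top hD hn 1
  obtain ⟨t', ht'⟩ := acts_conj hD hact (top_lt hD) (1 : F)
  exact eq_of_xG_eq hD (top_lt hD) (wact_lt (good hD) hw (top_lt hD))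
    (conj_ne hD (top_lt hD) one_ne_zero ht) (ht.symm.trans ht')

/-- one non-trivial element of `X_a` conjugated into `X_a` -/
theorem mem_P_of_conj (hD : InList D) {g : GL D.Idx F} (hg : g ∈ D.group F) {t t' : F} (ht : t ≠ 0)
    (h : g * xG hD (top D) t * g⁻¹ = xG hD (top D) t') : g ∈ P F D := by
  have G := good hD
  obtain ⟨b, hb, n, hn, b', hb', rfl⟩ := Cfsg.Agent.S1100.exists_bruhat hD hg
  have hbP := borel_le_P (F := F) hD hb
  have hbP' := borel_le_P (F := F) hD hb'
  obtain ⟨t₁, h1⟩ := P_conj_top hD hbP' t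
  have ht1 := conj_ne hD (top_lt hD) ht h1
  obtain ⟨t₂, h2⟩ := P_conj_top hD (Subgroup.inv_mem _ hbP) t'
  have h3 : n * xG hD (top D) t₁ * n⁻¹ = xG hD (top D) t₂ := by
    rw [← h1, ← h2, ← h]
    group
  obtain ⟨w, hw, hact⟩ := exists_acts hD hn
  obtain ⟨t₃, h4⟩ := acts_conj hD hact (top_lt hD) t₁
  have ht2 := conj_ne hD (top_lt hD) ht1 h3
  have h5 := eq_of_xG_eq hD (top_lt hD) (wact_lt G hw (top_lt hD)) ht2 (h3.symm.trans h4)
  exact Subgroup.mul_mem _ (Subgroup.mul_mem _ hbP (mem_P_of_wact hD hn hact h5)) hbP'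

/-- levels are preserved by words fixing the highest root -/
theorem level_wact (hD : InList D) {w : List ℕ} (hw : ∀ a ∈ w, a < D.rank) (h : wact D w (top D) = top D) {s : ℕ}
    (hs : s < D.nroots) : car D (top D) (wact D w s) = car D (top D) s := by
  have := car_wact (good hD) hw (top_lt hD) hs
  rwa [h] at this

/-! ### `P` normalises `Q` -/

theorem conj_Q_le (hD : InList D) {β : ℕ} {g : GL D.Idx F}
    (h : ∀ s < D.nroots, 1 ≤ car D β s → ∀ u : F, g * xG hD s u * g⁻¹ ∈ Q D F β) :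
    ∀ q ∈ Q D F β, g * q * g⁻¹ ∈ Q D F β := by
  have : Q D F β ≤ (Q D F β).comap (MulAut.conj g).toMonoidHom := (Q_le_iff hD).2 fun s hs h1 u => h s hs h1 u
  exact fun q hq => this hq

theorem x_conj_Q (hD : InList D) {β : ℕ} {r : ℕ} (hr : r < D.nroots) (h : 0 ≤ car D β r) (t : F) :
    ∀ q ∈ Q D F β, xG hD r t * q * (xG hD r t)⁻¹ ∈ Q D F β := by
  have hc := checked_of_mem hD
  have G := good hD
  refine conj_Q_le hD fun s hs h1 u => ?_
  by_cases hrs : s = r
  · subst hrs
    exact Subgroup.mul_mem _ (Subgroup.mul_mem _ (xG_mem_Q hD hr h1 t) (xG_mem_Q hD hr h1 u))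
      (Subgroup.inv_mem _ (xG_mem_Q hD hr h1 t))
  · have hsn : s ≠ D.neg r := by
      rintro rfl
      rw [car_neg_right G _ hr] at h1
      omega
    have hsn' : r ≠ D.neg s := by
      rintro rfl
      exact hsn (RootWord.neg_neg G hs).symm
    rw [UnipProd.xG_comm hD hs hr (Ne.symm hrs) hsn']
    have hw : wordG hD (D.commWord F s r u t) ∈ Q D F β := by
      refine commWord_mem hD fun c hcm v => ?_
      obtain ⟨h3, h4, h5, h6⟩ := commTerms_lin hc (lin_car hc β) hcm
      have h4' : (1 : ℤ) ≤ (c.2.2.1 : ℤ) := by exact_mod_cast h4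
      have h5' : (1 : ℤ) ≤ (c.2.2.2 : ℤ) := by exact_mod_cast h5
      refine xG_mem_Q hD h3 ?_ v
      rw [h6]
      nlinarith [mul_nonneg (show (0 : ℤ) ≤ (c.2.2.2 : ℤ) by omega) h]
    -- `x_s x_r w x_r⁻¹`
    have e : xG hD s u * xG hD r t * wordG hD (D.commWord F s r u t) * (xG hD r t)⁻¹ =
        xG hD s u * (xG hD r t * wordG hD (D.commWord F s r u t) * (xG hD r t)⁻¹) := by group
    rw [e]
    refine Subgroup.mul_mem _ (xG_mem_Q hD hs h1 u) ?_
    -- use the formula in the other order: the conjugate of the word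
    have h7 : xG hD r t * wordG hD (D.commWord F s r u t) * (xG hD r t)⁻¹ =
        (xG hD s u)⁻¹ * (xG hD r t * xG hD s u * (xG hD r t)⁻¹) := by
      have := UnipProd.xG_comm hD hs hr (Ne.symm hrs) hsn' u t
      calc xG hD r t * wordG hD (D.commWord F s r u t) * (xG hD r t)⁻¹
          = (xG hD s u)⁻¹ * (xG hD s u * xG hD r t * wordG hD (D.commWord F s r u t)) * (xG hD r t)⁻¹ := by group
        _ = (xG hD s u)⁻¹ * (xG hD r t * xG hD s u) * (xG hD r t)⁻¹ := by rw [← this]
        _ = _ := by group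
    rw [h7]
    refine Subgroup.mul_mem _ (Subgroup.inv_mem _ (xG_mem_Q hD hs h1 u)) ?_
    have h8 := UnipProd.xG_comm hD hr hs hrs hsn t u
    -- `x_s x_r = x_r x_s w'` hence `x_r x_s x_r⁻¹ = x_s x_r w'⁻¹ x_r⁻¹`; use `x_r x_s w' = x_s x_r`
    have h9 := UnipProd.xG_comm hD hr hs hrs hsn (-t) u
    have hw' : wordG hD (D.commWord F r s (-t) u) ∈ Q D F β := by
      refine commWord_mem hD fun c hcm v => ?_
      obtain ⟨h3, h4, h5, h6⟩ := commTerms_lin hc (lin_car hc β) hcm
      have h4' : (1 : ℤ) ≤ (c.2.2.1 : ℤ) := by exact_mod_cast h4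
      have h5' : (1 : ℤ) ≤ (c.2.2.2 : ℤ) := by exact_mod_cast h5
      refine xG_mem_Q hD h3 ?_ v
      rw [h6]
      nlinarith [mul_nonneg (show (0 : ℤ) ≤ (c.2.2.1 : ℤ) by omega) h]
    have h10 : xG hD r t * xG hD s u * (xG hD r t)⁻¹ = xG hD s u * wordG hD (D.commWord F r s (-t) u) := by
      rw [xG_inv]
      have : xG hD r t * (xG hD s u * xG hD r (-t)) =
          xG hD r t * (xG hD r (-t) * xG hD s u * wordG hD (D.commWord F r s (-t) u)) := by rw [h9]
      rw [mul_assoc, this, ← mul_assoc, ← mul_assoc, xG_add, add_neg_cancel, xG_zero, one_mul]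
    rw [h10]
    exact Subgroup.mul_mem _ (xG_mem_Q hD hs h1 u) hw'

theorem diag_conj_Q (hD : InList D) {β : ℕ} {h : GL D.Idx F} (hh : h ∈ D.diagonalSubgroup F) :
    ∀ q ∈ Q D F β, h * q * h⁻¹ ∈ Q D F β := by
  refine conj_Q_le hD fun s hs h1 u => ?_
  obtain ⟨t', e⟩ := root_conj_diag hD hh hs u
  rw [e]
  exact xG_mem_Q hD hs h1 t'

theorem pos_conj_Q (hD : InList D) {u : GL D.Idx F} (hu : u ∈ D.posUnipotent F) :
    ∀ q ∈ Q D F (top D), u * q * u⁻¹ ∈ Q D F (top D) := by
  have : D.posUnipotent F ≤ Subgroup.normalizer (Q D F (top D) : Set (GL D.Idx F)) := by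
    rw [posUnipotent_le_iff hD]
    intro r hr t
    refine mem_normalizer_of (x_conj_Q hD hr.1 (pos_level hD hr) t) (fun x hx => ?_)
    have := x_conj_Q hD hr.1 (pos_level hD hr) (-t) x hx
    rwa [← xG_inv, inv_inv] at this
  exact fun q hq => (Subgroup.mem_normalizer_iff.1 (this hu) q).1 hq

theorem borel_conj_Q (hD : InList D) {b : GL D.Idx F} (hb : b ∈ D.borelSubgroup F) :
    ∀ q ∈ Q D F (top D), b * q * b⁻¹ ∈ Q D F (top D) := by
  obtain ⟨u, hu, h, hh, rfl⟩ := Cfsg.Agent.S1100.exists_mul_of_mem_borel hD hb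
  intro q hq
  have := pos_conj_Q hD hu _ (diag_conj_Q hD hh q hq)
  have e : u * h * q * (u * h)⁻¹ = u * (h * q * h⁻¹) * u⁻¹ := by group
  rwa [e]

theorem mono_conj_Q (hD : InList D) {n : GL D.Idx F} {w : List ℕ} (hw : ∀ a ∈ w, a < D.rank)
    (hact : Acts n w) (h : wact D w (top D) = top D) : ∀ q ∈ Q D F (top D), n * q * n⁻¹ ∈ Q D F (top D) := by
  refine conj_Q_le hD fun s hs h1 u => ?_
  obtain ⟨t', e⟩ := acts_conj hD hact hs u
  rw [e]
  exact xG_mem_Q hD (wact_lt (good hD) hw hs) (by rw [level_wact hD hw h hs]; exact h1) t'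

/-- Bruhat decomposition inside `P` -/
theorem P_bruhat (hD : InList D) {g : GL D.Idx F} (hg : g ∈ P F D) :
    ∃ b ∈ D.borelSubgroup F, ∃ n ∈ NL F D, n ∈ P F D ∧ ∃ u ∈ Um F D n, g = b * n * u := by
  obtain ⟨b, hb, n, hn, u, hu, e⟩ := (Cfsg.Agent.S1100.result (F := F) D hD).1 g hg.1
  obtain ⟨h, hh, n', hn', rfl⟩ := exists_diag_mul_NL hD hn
  have hbB : b * h ∈ D.borelSubgroup F := Subgroup.mul_mem _ hb ((le_sup_right : D.diagonalSubgroup F ≤ _) hh)
  -- `Um (h n') = Um n'`
  have hu' : u ∈ Um F D n' := by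
    have hle : Um F D (h * n') ≤ Um F D n' := by
      refine (Subgroup.closure_le _).2 ?_
      rintro x ⟨r, t, hr, hle, hx⟩
      refine Subgroup.subset_closure ⟨r, t, hr, ?_, hx⟩
      rw [map_conj_mul, Subgroup.map_le_iff_le_comap] at hle
      intro y hy
      have h1 := hle hy
      have h2 : h * y * h⁻¹ ∈ D.negUnipotent F := h1
      have h3 := (Cfsg.Agent.S1037.result (F := F) D hD)
      obtain ⟨w, hw, hact⟩ := exists_acts hD (NL_le D hn')
      rw [hact r hr.1] at hy
      rcases pos_or_neg (good hD) (wact_lt (good hD) hw hr.1) with hp | hneg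
      · exfalso
        have h4 : (D.rootSubgroup F r).map (MulAut.conj (h * n')).toMonoidHom ≤ D.negUnipotent F := by
          rw [map_conj_mul, Subgroup.map_le_iff_le_comap]
          exact hle
        have h5 : Acts (h * n') w := by
          have := Acts.mul (good hD) (acts_of_mem_diagonal hD (good hD) hh) hact hw
          simpa using this
        exact not_pos_of_neg (good hD) (neg_of_map_le hD (good hD) hw h5 hr.1 h4) hp
      · exact rootSubgroup_le_neg hD hneg hy
    exact hle hu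
  refine ⟨b * h, hbB, n', hn', ?_, u, hu', by rw [e]; group⟩
  have huP : u ∈ P F D := pos_le_P hD (Um_le _ hu)
  have : n' = (b * h)⁻¹ * g * u⁻¹ := by rw [e]; group
  rw [this]
  exact Subgroup.mul_mem _ (Subgroup.mul_mem _ (Subgroup.inv_mem _ (borel_le_P hD hbB)) hg) (Subgroup.inv_mem _ huP)

theorem P_conj_Q (hD : InList D) {g : GL D.Idx F} (hg : g ∈ P F D) :
    ∀ q ∈ Q D F (top D), g * q * g⁻¹ ∈ Q D F (top D) := by
  obtain ⟨b, hb, n, hn, hnP, u, hu, rfl⟩ := P_bruhat hD hg
  obtain ⟨w, hw, hact⟩ := exists_acts hD (NL_le D hn)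
  intro q hq
  have h1 := borel_conj_Q hD hb _ (mono_conj_Q hD hw hact (wact_of_mem_P hD hnP hw hact) _
    (pos_conj_Q hD (Um_le _ hu) q hq))
  have e : b * n * u * q * (b * n * u)⁻¹ = b * (n * (u * q * u⁻¹) * n⁻¹) * b⁻¹ := by group
  rwa [e]

/-- `P ∩ Q⁻ = 1` -/
theorem P_inf_Q0 (hD : InList D) {v : GL D.Idx F} (hv : v ∈ P F D) (hv0 : v ∈ Q D F 0) : v = 1 := by
  obtain ⟨t, ht⟩ := P_conj_top hD hv 1
  refine eq_one_of_conj hD (good hD) (hi0 hD) hv0 (t₁ := 1) (t₂ := t) one_ne_zero ?_
  rw [neg_zero hD, ← ht]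
  group

end Cfsg.Agent.H86.Par
end
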