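import Cfsg.Agent.H86.QGroup
set_option linter.all false

/-!
# Table facts for the action on the roots of level one
-/

set_option autoImplicit false
set_option maxHeartbeats 0

namespace Cfsg.Agent.H86.Lev

open Cfsg.Lie Cfsg.Agent.ChevalleyStructure Cfsg.Agent.ChevalleyStructure.RootCombGood Cfsg.Agent.H86.Graded

/-- the coefficient of `x_s(t)` at `(r' - a, r - a)`, `r' = r + s`, is `± t` -/
def chkL0 (D : ChevalleyDatum) (s r : ℕ) : Bool :=
  decide (car D (D.nroots - 1) r = 1) && match (D.chainEntry s r).head? with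
  | some e => decide (D.chainCoeff s (pt D (D.nroots - 1) r) (pt D (D.nroots - 1) e.1) = [(1, 1)]) ||
      decide (D.chainCoeff s (pt D (D.nroots - 1) r) (pt D (D.nroots - 1) e.1) = [(1, -1)])
  | none => false

/-- moreover the other entries in the row `r' - a` vanish -/
def chkC (D : ChevalleyDatum) (s r : ℕ) : Bool :=
  decide (car D (D.nroots - 1) s = 0) && chkL0 D s r && match (D.chainEntry s r).head? with
  | some e => decide (∀ r'' < D.nroots, car D (D.nroots - 1) r'' = 1 → r'' ≠ r → r'' ≠ e.1 →
      D.chainCoeff s (pt D (D.nroots - 1) r'') (pt D (D.nroots - 1) e.1) = [])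
  | none => false

structure HiL (D : ChevalleyDatum) : Prop where
  ex1 : ∃ r < D.nroots, car D (D.nroots - 1) r = 1
  lev0 : ∀ s < D.nroots, D.nroots / 2 ≤ s → car D (D.nroots - 1) s = 0 → ∃ r < D.nroots, chkL0 D s r = true

def HiC (D : ChevalleyDatum) : Prop :=
  ∀ r < D.nroots, car D (D.nroots - 1) r = 1 → ∃ s < D.nroots, chkC D s r = true

instance (D : ChevalleyDatum) : Decidable (HiC D) := by unfold HiC; infer_instance

end Cfsg.Agent.H86.Lev
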