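import Cfsg.Agent.H86.TabL
set_option linter.all false

set_option autoImplicit false
set_option maxHeartbeats 0

namespace Cfsg.Agent.H86.Lev

open Cfsg.Lie Cfsg.Agent.ChevalleyStructure Cfsg.Agent.ChevalleyStructure.RootCombGood Cfsg.Agent.H86.Graded

/-! The checks are made at witnesses and in pieces, for the memory of the kernel. -/

/-- roots of level zero with a witness -/
def e8l0 : List (ℕ × ℕ) := [(121, 120), (123, 122), (124, 120), (126, 125), (127, 122), (128, 120), (130, 129), (131, 125), (132, 122),
   (133, 120), (135, 134), (136, 129), (137, 125), (138, 122), (139, 120), (141, 134), (142, 129),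
   (143, 125), (144, 122), (145, 120), (147, 129), (148, 125), (149, 122), (150, 120), (152, 125),
   (153, 122), (154, 120), (156, 122), (157, 120), (159, 120), (162, 140)]

/-- roots of level zero with a witness -/
def e8l1 : List (ℕ × ℕ) := [(163, 134), (164, 129), (165, 125), (166, 122), (167, 120), (169, 129), (170, 125), (171, 122), (172, 120),
   (174, 125), (175, 122), (176, 120), (178, 122), (179, 120), (181, 120), (184, 125), (185, 122),
   (186, 120), (188, 122), (189, 120), (191, 120), (194, 122), (195, 120), (197, 120), (200, 120),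
   (204, 122), (205, 120), (207, 120), (210, 120), (214, 120), (219, 120), (226, 120)]

/-- roots of level one with a witness -/
def e8c0 : List (ℕ × ℕ) := [(120, 121), (122, 118), (125, 115), (129, 111), (134, 106), (140, 100), (146, 94), (151, 89), (155, 85),
   (158, 82), (160, 80), (161, 80), (168, 72), (173, 67), (177, 63), (180, 60), (182, 58), (183, 58)]

/-- roots of level one with a witness -/
def e8c1 : List (ℕ × ℕ) := [(187, 53), (190, 50), (192, 48), (193, 48), (196, 44), (198, 42), (199, 42), (201, 39), (202, 39),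
   (203, 39), (206, 34), (208, 32), (209, 32), (211, 29), (212, 29), (213, 29), (215, 25), (216, 25),
   (217, 25)]

/-- roots of level one with a witness -/
def e8c2 : List (ℕ × ℕ) := [(218, 25), (220, 20), (221, 20), (222, 20), (223, 20), (224, 20), (225, 20), (227, 13), (228, 13),
   (229, 13), (230, 13), (231, 13), (232, 13), (233, 13), (234, 13), (235, 13), (236, 13), (237, 13),
   (238, 13)]

/-- the roots of level one -/
def e8one : List ℕ := [120, 122, 125, 129, 134, 140, 146, 151, 155, 158, 160, 161, 168, 173, 177, 180, 182, 183, 187, 190, 192,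
   193, 196, 198, 199, 201, 202, 203, 206, 208, 209, 211, 212, 213, 215, 216, 217, 218, 220, 221, 222, 223,
   224, 225, 227, 228, 229, 230, 231, 232, 233, 234, 235, 236, 237, 238]

/-- the positive roots of level zero -/
def e8zero : List ℕ := [121, 123, 124, 126, 127, 128, 130, 131, 132, 133, 135, 136, 137, 138, 139, 141, 142, 143, 144, 145, 147,
   148, 149, 150, 152, 153, 154, 156, 157, 159, 162, 163, 164, 165, 166, 167, 169, 170, 171, 172, 174, 175,
   176, 178, 179, 181, 184, 185, 186, 188, 189, 191, 194, 195, 197, 200, 204, 205, 207, 210, 214, 219, 226]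

theorem e8_levels : ∀ r < chevE8.nroots, (car chevE8 (chevE8.nroots - 1) r = 1 → r ∈ e8one) ∧
    (chevE8.nroots / 2 ≤ r → car chevE8 (chevE8.nroots - 1) r = 0 → r ∈ e8zero) := by decide +kernel

/-- `chkC` with the list of the roots of level one -/
def e8chk (s r : ℕ) : Bool :=
  decide (car chevE8 (chevE8.nroots - 1) s = 0) && chkL0 chevE8 s r && match (chevE8.chainEntry s r).head? with
  | some e => e8one.all fun r'' => Nat.beq r'' r || (Nat.beq r'' e.1 ||
      decide (chevE8.chainCoeff s (pt chevE8 (chevE8.nroots - 1) r'') (pt chevE8 (chevE8.nroots - 1) e.1) = []))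
  | none => false

theorem chkC_of_e8chk {s r : ℕ} (h : e8chk s r = true) : chkC chevE8 s r = true := by
  unfold e8chk at h
  unfold chkC
  rw [Bool.and_eq_true] at h ⊢
  refine ⟨h.1, ?_⟩
  have h2 := h.2
  generalize (chevE8.chainEntry s r).head? = o at h2
  cases o with
  | none => exact h2
  | some e =>
    simp only [List.all_eq_true, Bool.or_eq_true, decide_eq_true_eq] at h2 ⊢
    intro r'' hr h1 hn1 hn2
    rcases h2 r'' ((e8_levels r'' hr).1 h1) with h3 | h3 | h3
    · exact absurd (Nat.eq_of_beq_eq_true h3) hn1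
    · exact absurd (Nat.eq_of_beq_eq_true h3) hn2
    · exact h3

theorem e8l0_ok : (e8l0.all fun p => chkL0 chevE8 p.1 p.2) = true := by decide +kernel

theorem e8l1_ok : (e8l1.all fun p => chkL0 chevE8 p.1 p.2) = true := by decide +kernel

theorem e8c0_ok : (e8c0.all fun p => e8chk p.2 p.1) = true := by decide +kernel

theorem e8c1_ok : (e8c1.all fun p => e8chk p.2 p.1) = true := by decide +kernel

theorem e8c2_ok : (e8c2.all fun p => e8chk p.2 p.1) = true := by decide +kernel

theorem e8_lists : e8zero = (e8l0 ++ e8l1).map Prod.fst ∧ e8one = (e8c0 ++ (e8c1 ++ e8c2)).map Prod.fst ∧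
    ((e8l0 ++ e8l1).all fun p => Nat.blt p.2 240) = true ∧ ((e8c0 ++ (e8c1 ++ e8c2)).all fun p => Nat.blt p.2 240) = true ∧
    chevE8.nroots = 240 := by decide +kernel

theorem lt_of_blt {a b : ℕ} (h : Nat.blt a b = true) : a < b := by rwa [Nat.blt_eq] at h

theorem e8_ex1 : ∃ r < chevE8.nroots, car chevE8 (chevE8.nroots - 1) r = 1 := ⟨120, by decide +kernel, by decide +kernel⟩

theorem hlE8 : HiL chevE8 where
  ex1 := e8_ex1
  lev0 := by
    intro s hs h1 h2
    obtain ⟨i1, -, i3, -, i5⟩ := e8_lists
    have h0 := (e8_levels s hs).2 h1 h2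
    rw [i1] at h0
    obtain ⟨p, hp, rfl⟩ := List.mem_map.1 h0
    have h3 : ((e8l0 ++ e8l1).all fun p => chkL0 chevE8 p.1 p.2) = true := by
      rw [List.all_append, e8l0_ok, e8l1_ok]
      rfl
    exact ⟨p.2, by rw [i5]; exact lt_of_blt (List.all_eq_true.1 i3 p hp), List.all_eq_true.1 h3 p hp⟩

theorem hcE8 : HiC chevE8 := by
  intro r hr h1
  obtain ⟨-, i2, -, i4, i5⟩ := e8_lists
  have h0 := (e8_levels r hr).1 h1
  rw [i2] at h0
  obtain ⟨p, hp, rfl⟩ := List.mem_map.1 h0
  have h3 : ((e8c0 ++ (e8c1 ++ e8c2)).all fun p => e8chk p.2 p.1) = true := by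
    rw [List.all_append, List.all_append, e8c0_ok, e8c1_ok, e8c2_ok]
    rfl
  exact ⟨p.2, by rw [i5]; exact lt_of_blt (List.all_eq_true.1 i4 p hp), chkC_of_e8chk (List.all_eq_true.1 h3 p hp)⟩

end Cfsg.Agent.H86.Lev
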