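import Cfsg.Agent.H86.FixP
import Cfsg.Agent.H86.TabL
set_option linter.all false

-- part: H86/Rat
section
/-!
# Rationality of `H ∩ Q`
-/

set_option autoImplicit false

namespace Cfsg.Agent.H86.Par

open Cfsg.Lie Cfsg.Agent.ChevalleyStructure Cfsg.Agent.ChevalleyStructure.RootCombGood
  Cfsg.Agent.ChevalleyStructure.RootWord Cfsg.Agent.ChevalleyStructure.RootVec
  Cfsg.Agent.ChevalleyStructure.RootVecTab Cfsg.Agent.ChevalleyStructure.RootSupport
  Cfsg.Agent.ChevalleyStructure.Elts Cfsg.Agent.ChevalleyStructure.BruhatSplit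
  Cfsg.Agent.H86.Lev Cfsg.Agent.H86.Graded Cfsg.Agent.H92.ChevCent Cfsg.Agent.H92.ChevFrob

universe u

variable {D : ChevalleyDatum} {F : Type u} [Field F]

/-- all root elements of `H` have parameters fixed by `f` -/
def XRat (hD : InList D) (f : F →+* F) (H : Subgroup (GL D.Idx F)) : Prop :=
  ∀ r < D.nroots, ∀ t : F, xG hD r t ∈ H → f t = t

/-- the last step: `x_a(e) n ∈ H` with `n` rational -/
theorem hE_of_long (hD : InList D) {isL : ℕ → Bool} (T : HiP D isL)
    (hex : ∃ β < D.nroots, isL β = true ∧ car D (top D) β = -1) {f : F →+* F} {H : Subgroup (GL D.Idx F)}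
    (hFL : FL D f ≤ H) (hX : XRat hD f H) :
    ∀ e : F, ∀ n ∈ P F D, n ∈ D.monomialSubgroup F → fr D f n = n → xG hD (top D) e * n ∈ H → f e = e := by
  intro e n hnP hnN hfn hH
  have hc := checked_of_mem hD
  have G := good hD
  obtain ⟨β, hβ, hL, hl⟩ := hex
  obtain ⟨γ, c, hcom, hc1, -, hcom'⟩ := chkLong_spec (T.long β hβ hL hl)
  obtain ⟨hγ, -, -, hlev⟩ := commTerms_lin hc (lin_car hc (top D)) (r := top D) (s := β) (c := (γ, c, 1, 1))
    (by rw [hcom]; exact List.mem_singleton_self _)
  simp only [Nat.cast_one, one_mul, car_top hD, hl] at hlev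
  have hlev' : car D (top D) γ = 1 := by
    show car D (top D) (γ, c, 1, 1).1 = 1
    rw [hlev]; norm_num
  clear hlev
  replace hγ : γ < D.nroots := hγ
  obtain ⟨w, hw, hact⟩ := exists_acts hD hnN
  have htop := wact_of_mem_P hD hnP hw hact
  have hwr : ∀ a ∈ w.reverse, a < D.rank := fun a ha => hw a (by simpa using ha)
  have hs' := wact_lt G hwr hβ
  obtain ⟨t, ht⟩ := acts_conj hD hact hs' (1 : F)
  rw [wact_reverse' G hw hβ] at ht
  have ht0 := conj_ne hD hs' one_ne_zero ht
  have hx : xG hD (wact D w.reverse β) (1 : F) ∈ FL D f := xG_mem_FL hD _ (map_one f)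
  have hft : fr D f (xG hD β t) = xG hD β t := by
    rw [← ht, map_mul, map_mul, map_inv, hfn, fr_of_mem_FL hD hx]
  have hft' : f t = t := by
    rw [fr_xG] at hft
    exact xG_injective hD hβ hft
  have h7 : xG hD (top D) e * xG hD β t * (xG hD (top D) e)⁻¹ ∈ H := by
    have : xG hD (top D) e * xG hD β t * (xG hD (top D) e)⁻¹ =
        (xG hD (top D) e * n) * xG hD (wact D w.reverse β) 1 * (xG hD (top D) e * n)⁻¹ := by
      rw [← ht]; group
    rw [this]
    exact Subgroup.mul_mem _ (Subgroup.mul_mem _ hH (hFL hx)) (Subgroup.inv_mem _ hH)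
  have hxs : xG hD β t ∈ H := hFL (xG_mem_FL hD β hft')
  have hlc := long_comm hD hβ hl hcom (-e) t
  have hβγ : ∀ v : F, xG hD γ v * xG hD β t = xG hD β t * xG hD γ v := by
    intro v
    have hne1 : γ ≠ β := by rintro rfl; omega
    have hne2 : γ ≠ D.neg β := by
      rintro rfl
      have h2 := commTerms_rt hc (r := top D) (s := β) (u := D.neg β) (C := c) (i := 1) (j := 1)
        (by rw [hcom]; exact List.mem_singleton_self _)
      obtain ⟨h3, h4, h5, -, -, h6⟩ := h2
      have h7 := lin_car hc β (top D) β (D.neg β) (-2) 0 (top_lt hD) hβ h3 (fun i _ => by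
        have h8 := h6 i
        rw [rt_neg hc hβ] at h8
        push_cast at h8
        linarith)
      have h9 := G.car_self hβ
      have h10 : car D β (top D) = -4 := by rw [h7, h9]; norm_num
      obtain ⟨w', hw', hwe⟩ := long_to_top hD T _ β rfl hβ hL
      have h11 := car_wact G hw' hβ (top_lt hD)
      rw [hwe] at h11
      have h12 := (hiT hD).low _ (wact_lt G hw' (top_lt hD))
      omega
    rw [UnipProd.xG_comm hD hβ hγ hne1 hne2]
    have : D.commWord F β γ t v = [] := by
      unfold ChevalleyDatum.commWord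
      rw [hcom']; rfl
    rw [this, wordG_nil, mul_one]
  -- `x_a(e) x_β(t) x_a(-e) x_β(-t) = x_γ(c e t)`
  have h8 : xG hD (top D) e * xG hD β t * (xG hD (top D) e)⁻¹ * (xG hD β t)⁻¹ =
      xG hD γ ((c : F) * (- -e) * t) := by
    set v : F := (c : F) * (- -e) * t
    have h9 := hβγ v
    calc xG hD (top D) e * xG hD β t * (xG hD (top D) e)⁻¹ * (xG hD β t)⁻¹
        = xG hD (top D) e * (xG hD β t * xG hD (top D) (-e)) * (xG hD β t)⁻¹ := by rw [xG_inv hD (top D)]; group
      _ = xG hD (top D) e * (xG hD (top D) (-e) * xG hD β t * xG hD γ v) * (xG hD β t)⁻¹ := by rw [hlc]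
      _ = (xG hD (top D) e * xG hD (top D) (-e)) * (xG hD β t * xG hD γ v) * (xG hD β t)⁻¹ := by group
      _ = xG hD γ v := by rw [xG_add, add_neg_cancel, xG_zero, one_mul, ← h9]; group
  have h10 : xG hD γ ((c : F) * (- -e) * t) ∈ H := by
    rw [← h8]
    exact Subgroup.mul_mem _ h7 (Subgroup.inv_mem _ hxs)
  have h11 := hX γ hγ _ h10
  have hcne : (c : F) * t ≠ 0 := by
    rcases hc1 with rfl | rfl
    · simpa using ht0
    · simpa using ht0
  rw [map_mul, map_mul, map_intCast, hft', map_neg, map_neg] at h11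
  have h12 : (c : F) * t * (f e - e) = 0 := by linear_combination h11
  exact sub_eq_zero.1 ((mul_eq_zero.1 h12).resolve_left hcne)

/-! ### Commutators inside `Q` -/

theorem comm_Q (hD : InList D) {s : ℕ} (hs : s < D.nroots) (h1 : 1 ≤ car D (top D) s) (u : F) {v : GL D.Idx F}
    (hv : v ∈ Q D F (top D)) : ∃ z : F, v * xG hD s u = xG hD s u * v * xG hD (top D) z := by
  have G := good hD
  have T := hiT hD
  unfold Q at hv
  induction hv using Subgroup.closure_induction with
  | one => exact ⟨0, by rw [xG_zero]; group⟩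
  | mem x hx =>
    obtain ⟨r, t, hr, hr1, hx⟩ := hx
    obtain ⟨z, hz⟩ := comm_one hD G T hs h1 hr hr1 u t
    rw [(eq_xG_iff hD x r t).2 hx]
    exact ⟨z, hz⟩
  | mul x y hx hy ihx ihy =>
    obtain ⟨z1, h1⟩ := ihx
    obtain ⟨z2, h2⟩ := ihy
    refine ⟨z1 + z2, ?_⟩
    have h3 := Q_comm_top hD G T (show y ∈ Q D F (top D) from hy) z1
    calc x * y * xG hD s u = x * (y * xG hD s u) := by group
      _ = (x * xG hD s u) * y * xG hD (top D) z2 := by rw [h2]; group
      _ = xG hD s u * x * (xG hD (top D) z1 * y) * xG hD (top D) z2 := by rw [h1]; group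
      _ = xG hD s u * x * (y * xG hD (top D) z1) * xG hD (top D) z2 := by rw [h3]
      _ = xG hD s u * (x * y) * (xG hD (top D) z1 * xG hD (top D) z2) := by group
      _ = _ := by rw [xG_add]
  | inv x hx ih =>
    obtain ⟨z, h1⟩ := ih
    refine ⟨-z, ?_⟩
    have h3 := Q_comm_top hD G T (show x ∈ Q D F (top D) from hx) z
    have h4 : xG hD s u * x = x * xG hD s u * xG hD (top D) (-z) := by
      rw [h1, ← xG_inv]; group
    have h5 := Q_comm_top hD G T (Subgroup.inv_mem _ (show x ∈ Q D F (top D) from hx)) (-z)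
    calc x⁻¹ * xG hD s u = x⁻¹ * (xG hD s u * x) * x⁻¹ := by group
      _ = xG hD s u * (xG hD (top D) (-z) * x⁻¹) := by rw [h4]; group
      _ = _ := by rw [← h5]; group

/-- the structure constant of `(a - r) + r = a`. -/
def cst (D : ChevalleyDatum) (r : ℕ) : ℤ := ((D.commTerms (D.neg (pt D (D.nroots - 1) r)) r).head?.map
  fun c => c.2.1).getD 0

def chkCst (D : ChevalleyDatum) (l : List ℤ) (r : ℕ) : Bool :=
  decide (D.commTerms (D.neg (pt D (D.nroots - 1) r)) r = [(D.nroots - 1, cst D r, 1, 1)]) &&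
    decide (r ≠ D.neg (pt D (D.nroots - 1) r)) && l.contains (cst D r)

/-- the commutator of `v ∈ Q` with `x_{a-r}(1)` is given by the coordinate `r` of `v`. -/
theorem comm_coord (hD : InList D) {r : ℕ} (hr : r < D.nroots) (h1 : car D (top D) r = 1)
    (hcst : D.commTerms (D.neg (pt D (top D) r)) r = [(top D, cst D r, 1, 1)])
    (hne : r ≠ D.neg (pt D (top D) r)) {v : GL D.Idx F} (hv : v ∈ Q D F (top D)) (u : F) :
    v * xG hD (D.neg (pt D (top D) r)) u = xG hD (D.neg (pt D (top D) r)) u * v *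
      xG hD (top D) ((cst D r : F) * (-u) * kap D (top D) r (v : Matrix D.Idx D.Idx F)) := by
  classical
  have hc := checked_of_mem hD
  have G := good hD
  have T := hiT hD
  have hp := pt_spec hc T hr h1
  have hl := car_pt hc G T hr h1
  set s := D.neg (pt D (top D) r) with hs
  have hsn : s < D.nroots := RootWord.neg_lt G hp.1
  have hs1 : car D (top D) s = 1 := by rw [hs, car_neg_right G _ hp.1, hl]; norm_num
  have hrt : ∀ i, rt D s i = rt D (top D) i - rt D r i := by
    intro i
    rw [hs, rt_neg hc hp.1, hp.2.1 i, rt_neg hc (top_lt hD)]; ring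
  -- the parameter of the commutator
  set φ : GL D.Idx F → F := fun g => if h : ∃ z : F, g * xG hD s u = xG hD s u * g * xG hD (top D) z then
    Classical.choose h else 0 with hφ
  have hφs : ∀ g : GL D.Idx F, ∀ z : F, g * xG hD s u = xG hD s u * g * xG hD (top D) z → φ g = z := by
    intro g z hz
    have hex : ∃ z : F, g * xG hD s u = xG hD s u * g * xG hD (top D) z := ⟨z, hz⟩
    have h2 : φ g = Classical.choose hex := by rw [hφ]; exact dif_pos hex
    have h3 := Classical.choose_spec hex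
    rw [← h2] at h3
    exact xG_injective hD (top_lt hD) (mul_left_cancel (h3.symm.trans hz))
  have hφQ : ∀ g ∈ Q D F (top D), g * xG hD s u = xG hD s u * g * xG hD (top D) (φ g) := by
    intro g hg
    obtain ⟨z, hz⟩ := comm_Q hD hsn hs1.ge u hg
    rw [hφs g z hz]
    exact hz
  have hadd : ∀ g ∈ Q D F (top D), ∀ h ∈ Q D F (top D), φ (g * h) = φ g + φ h := by
    intro g hg h hh
    refine hφs _ _ ?_
    have h3 := Q_comm_top hD G T hh (φ g)
    calc g * h * xG hD s u = g * (h * xG hD s u) := by group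
      _ = (g * xG hD s u) * h * xG hD (top D) (φ h) := by rw [hφQ h hh]; group
      _ = xG hD s u * g * (xG hD (top D) (φ g) * h) * xG hD (top D) (φ h) := by rw [hφQ g hg]; group
      _ = xG hD s u * g * (h * xG hD (top D) (φ g)) * xG hD (top D) (φ h) := by rw [h3]
      _ = xG hD s u * (g * h) * (xG hD (top D) (φ g) * xG hD (top D) (φ h)) := by group
      _ = _ := by rw [xG_add]
  have hother : ∀ r' < D.nroots, 1 ≤ car D (top D) r' → r' ≠ r → ∀ t : F, φ (xG hD r' t) = 0 := by
    intro r' hr' hr'1 hne t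
    refine hφs _ _ ?_
    rw [xG_zero, mul_one]
    by_cases hrs : r' = s
    · rw [hrs, xG_add, xG_add, add_comm]
    · rw [UnipProd.xG_comm hD hsn hr' hrs (neg_not_pos G hsn hs1.ge hr'1)]
      have : D.commTerms s r' = [] := by
        rw [List.eq_nil_iff_forall_not_mem]
        rintro ⟨x, C, i, j⟩ hcm
        obtain ⟨h3, h4, h5, h6, h7, h8⟩ := commTerms_rt hc hcm
        obtain ⟨-, -, -, h9⟩ := commTerms_lin hc (lin_car hc (top D)) hcm
        simp only at h9
        rw [hs1] at h9
        have h10 := T.high _ h3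
        have h6' : (1 : ℤ) ≤ (i : ℤ) := by exact_mod_cast h6
        have h7' : (1 : ℤ) ≤ (j : ℤ) := by exact_mod_cast h7
        have h11 : (j : ℤ) ≤ (j : ℤ) * car D (top D) r' := by nlinarith
        have hi : (i : ℤ) = 1 := by nlinarith
        have hj : (j : ℤ) = 1 := by nlinarith
        have hx : x = top D := T.top x h3 (by nlinarith)
        apply hne
        refine rt_inj hc hr' hr fun k _ => ?_
        have h12 := h8 k
        rw [hx, hi, hj, hrt k] at h12
        linarith
      have h2 : D.commWord F s r' u t = [] := by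
        unfold ChevalleyDatum.commWord
        rw [this]; rfl
      rw [h2, wordG_nil, mul_one]
  have h2 := hom_kap hD G T φ hadd hr h1 hother hv
  have h3 := hφQ v hv
  rw [h2] at h3
  rw [h3]
  congr 2
  refine hφs _ _ ?_
  rw [UnipProd.xG_comm hD hsn hr hne (neg_not_pos G hsn hs1.ge h1.ge)]
  congr 1
  unfold ChevalleyDatum.commWord
  rw [hcst]
  simp only [List.map_cons, List.map_nil, wordG_cons, wordG_nil, mul_one, pow_one]

theorem chkCst_spec {l : List ℤ} {r : ℕ} (h : chkCst D l r = true) :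
    D.commTerms (D.neg (pt D (top D) r)) r = [(top D, cst D r, 1, 1)] ∧ r ≠ D.neg (pt D (top D) r) ∧ cst D r ∈ l := by
  unfold chkCst at h
  rw [Bool.and_eq_true, Bool.and_eq_true, decide_eq_true_eq, decide_eq_true_eq, List.contains_iff_mem] at h
  exact ⟨h.1.1, h.1.2, h.2⟩

/-- rationality of the coordinates with invertible structure constant -/
theorem kap_rat (hD : InList D) {f : F →+* F} {H : Subgroup (GL D.Idx F)} (hFL : FL D f ≤ H) (hX : XRat hD f H)
    {l : List ℤ} {r : ℕ} (hr : r < D.nroots) (h1 : car D (top D) r = 1) (hchk : chkCst D l r = true)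
    (hne : ((cst D r : ℤ) : F) ≠ 0) {v : GL D.Idx F} (hv : v ∈ H) (hvQ : v ∈ Q D F (top D)) :
    f (kap D (top D) r (v : Matrix D.Idx D.Idx F)) = kap D (top D) r (v : Matrix D.Idx D.Idx F) := by
  have G := good hD
  obtain ⟨hcst, hrs, -⟩ := chkCst_spec hchk
  have h2 := comm_coord hD hr h1 hcst hrs hvQ 1
  set s := D.neg (pt D (top D) r)
  have hx : xG hD s (1 : F) ∈ H := hFL (xG_mem_FL hD s (map_one f))
  have h3 : xG hD (top D) ((cst D r : F) * (-1) * kap D (top D) r (v : Matrix D.Idx D.Idx F)) ∈ H := by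
    have e : xG hD (top D) ((cst D r : F) * (-1) * kap D (top D) r (v : Matrix D.Idx D.Idx F)) =
        v⁻¹ * (xG hD s 1)⁻¹ * (v * xG hD s 1) := by rw [h2]; group
    rw [e]
    exact Subgroup.mul_mem _ (Subgroup.mul_mem _ (Subgroup.inv_mem _ hv) (Subgroup.inv_mem _ hx))
      (Subgroup.mul_mem _ hv hx)
  have h4 := hX _ (top_lt hD) _ h3
  rw [map_mul, map_mul, map_intCast, map_neg, map_one] at h4
  have h5 : ((cst D r : ℤ) : F) * (f (kap D (top D) r (v : Matrix D.Idx D.Idx F)) -
      kap D (top D) r (v : Matrix D.Idx D.Idx F)) = 0 := by linear_combination -h4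
  exact sub_eq_zero.1 ((mul_eq_zero.1 h5).resolve_left hne)

/-- `H ∩ Q` is fixed if its coordinates are. -/
theorem Q_fixed (hD : InList D) {f : F →+* F} {H : Subgroup (GL D.Idx F)} (hFL : FL D f ≤ H) (hX : XRat hD f H)
    (hK : ∀ v ∈ H, v ∈ Q D F (top D) → ∀ r < D.nroots, car D (top D) r = 1 →
      f (kap D (top D) r (v : Matrix D.Idx D.Idx F)) = kap D (top D) r (v : Matrix D.Idx D.Idx F)) :
    ∀ v ∈ H, v ∈ Q D F (top D) → fr D f v = v := by
  intro v hv hvQ
  obtain ⟨e, he⟩ := form hD (good hD) (hiT hD) hvQ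
  set W : GL D.Idx F := Wd hD (lev1 D (top D)) (fun s => kap D (top D) s (v : Matrix D.Idx D.Idx F)) with hW
  have hWF : W ∈ FL D f := by
    refine mem_of_xG_mem hD ?_
    intro p hp
    obtain ⟨r, hr, rfl⟩ := List.mem_map.1 hp
    have := mem_lev1.1 hr
    exact xG_mem_FL hD r (hK v hv hvQ r this.1 this.2)
  have hxe : xG hD (top D) e ∈ H := by
    have : xG hD (top D) e = W⁻¹ * v := by rw [he]; group
    rw [this]
    exact Subgroup.mul_mem _ (Subgroup.inv_mem _ (hFL hWF)) hv
  rw [he, map_mul, fr_of_mem_FL hD hWF, fr_xG, hX _ (top_lt hD) _ hxe]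

end Cfsg.Agent.H86.Par
end

-- part: H86/TabN
section
/-!
# Further small table facts
-/

set_option autoImplicit false
set_option maxHeartbeats 0

namespace Cfsg.Agent.H86.Lev

open Cfsg.Lie Cfsg.Agent.ChevalleyStructure Cfsg.Agent.ChevalleyStructure.RootCombGood Cfsg.Agent.H86.Graded
  Cfsg.Agent.H86.Par

/-- * `pl`: a plane on which the root pair `± a` acts as `SL₂`;
* `mv`: a root of level zero moved to a positive level by a simple reflection;
* `cs`: the structure constants of `(a - r) + r = a`. -/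
structure HiN (D : ChevalleyDatum) (l : List ℤ) : Prop where
  pl : ∃ r < D.nroots, car D (D.nroots - 1) r = 1 ∧
    ((D.chainCoeff (D.nroots - 1) (pt D (D.nroots - 1) r) r = [(1, 1)] ∧
        D.chainCoeff 0 r (pt D (D.nroots - 1) r) = [(1, 1)]) ∨
      (D.chainCoeff (D.nroots - 1) (pt D (D.nroots - 1) r) r = [(1, -1)] ∧
        D.chainCoeff 0 r (pt D (D.nroots - 1) r) = [(1, -1)]))
  mv : ∃ s < D.nroots, car D (D.nroots - 1) s = 0 ∧ ∃ i < D.rank, 1 ≤ car D (D.nroots - 1) (D.reflectRoot i s)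
  cs : ∀ r < D.nroots, car D (D.nroots - 1) r = 1 → chkCst D l r = true

end Cfsg.Agent.H86.Lev
end
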