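import Cfsg.Agent.H86.HTest
import Cfsg.Agent.H86.TabL
import Cfsg.Agent.H86.TabNS
import Cfsg.Agent.S1032
set_option linter.all false

-- part: H86/HTB2
section
/-!
# The element of order six for `B₂`, and the rational long root elements
-/

set_option autoImplicit false

namespace Cfsg.Agent.H86.Par

open Cfsg.Lie Cfsg.Agent.ChevalleyStructure Cfsg.Agent.ChevalleyStructure.RootCombGood
  Cfsg.Agent.ChevalleyStructure.RootWord Cfsg.Agent.ChevalleyStructure.RootVec
  Cfsg.Agent.ChevalleyStructure.RootVecTab Cfsg.Agent.ChevalleyStructure.RootSupport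
  Cfsg.Agent.ChevalleyStructure.Elts Cfsg.Agent.ChevalleyStructure.BruhatSplit
  Cfsg.Agent.H86.Lev Cfsg.Agent.H86.Graded Cfsg.Agent.H92.ChevCent Cfsg.Agent.H92.ChevFrob
  Cfsg.Agent.LieClassical.SLTwoUnipotent

universe u

variable {F : Type u} [Field F]

theorem inB2 : InList chevB2 := by unfold InList; simp
theorem inG2 : InList chevG2 := by unfold InList; simp
theorem inF4 : InList chevF4 := by unfold InList; simp

theorem b2_comm54 (t v : F) : xG inB2 4 v * xG inB2 5 t = xG inB2 5 t * xG inB2 4 v *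
    (xG inB2 6 (((-1 : ℤ) : F) * (-t) * v) * xG inB2 7 (((-1 : ℤ) : F) * (-t) ^ 2 * v)) := by
  rw [UnipProd.xG_comm inB2 (by decide) (by decide) (by decide) (by decide)]
  congr 1
  unfold ChevalleyDatum.commWord
  rw [show chevB2.commTerms 5 4 = [(6, -1, 1, 1), (7, -1, 2, 1)] by decide +kernel]
  simp only [List.map_cons, List.map_nil, wordG_cons, wordG_nil, mul_one, pow_one]

theorem ht_B2 [CharP F 2] (f : F →+* F) : HT chevB2 F inB2 f := by
  have G := good inB2
  refine ht_of_orth inB2 f (γ := 7) (γ' := 4) (by decide) (by decide) (by decide) (by decide) (by decide +kernel)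
    (by decide +kernel) ⟨[0, 1, 0], by decide, by decide +kernel⟩ ?_
  have h5 : xG inB2 5 (1 : F) ∈ FL chevB2 f := xG_mem_FL inB2 _ (map_one f)
  have hn : nG inB2 (chevB2.simple 0) (1 : F) ∈ FL chevB2 f := NL_le_FL inB2 f (nG_mem_NL inB2 (by decide))
  obtain ⟨η, hη, h1⟩ := MonomialNormal.xG_conj inB2 (SharpSign.sharp (F := F) inB2) (i := 0) (s := 4) (by decide)
    (by decide)
  obtain ⟨η', hη', h2⟩ := MonomialNormal.xG_conj inB2 (SharpSign.sharp (F := F) inB2) (i := 0) (s := 6) (by decide)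
    (by decide)
  refine ⟨nG inB2 (chevB2.simple 0) 1 * (xG inB2 5 1)⁻¹, Subgroup.mul_mem _ hn (Subgroup.inv_mem _ h5), ?_⟩
  have h57 : xG inB2 5 (1 : F) * xG inB2 7 1 = xG inB2 7 1 * xG inB2 5 1 :=
    comm_top0 inB2 (r := 5) (by decide) (by decide +kernel) 1 1
  have h46 : xG inB2 7 (((-1 : ℤ) : F) * (-1) ^ 2 * 1) = xG inB2 7 1 := by
    congr 1
    push_cast
    rw [CharTwo.neg_eq]; norm_num
  have e1 : (xG inB2 5 (1 : F))⁻¹ * (xG inB2 4 1 * xG inB2 7 1) * xG inB2 5 1 =
      xG inB2 4 1 * xG inB2 6 (((-1 : ℤ) : F) * (-1) * 1) := by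
    calc (xG inB2 5 (1 : F))⁻¹ * (xG inB2 4 1 * xG inB2 7 1) * xG inB2 5 1
        = (xG inB2 5 (1 : F))⁻¹ * (xG inB2 4 1 * (xG inB2 7 1 * xG inB2 5 1)) := by group
      _ = (xG inB2 5 (1 : F))⁻¹ * (xG inB2 4 1 * xG inB2 5 1) * xG inB2 7 1 := by rw [← h57]; group
      _ = xG inB2 4 1 * xG inB2 6 (((-1 : ℤ) : F) * (-1) * 1) * (xG inB2 7 1 * xG inB2 7 1) := by
          rw [b2_comm54, h46]; group
      _ = _ := by rw [x_sq, mul_one]
  have e2 : nG inB2 (chevB2.simple 0) 1 * (xG inB2 5 (1 : F))⁻¹ * (xG inB2 4 1 * xG inB2 7 1) *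
      (nG inB2 (chevB2.simple 0) 1 * (xG inB2 5 (1 : F))⁻¹)⁻¹ =
      (nG inB2 (chevB2.simple 0) 1 * xG inB2 4 1 * (nG inB2 (chevB2.simple 0) 1)⁻¹) *
      (nG inB2 (chevB2.simple 0) 1 * xG inB2 6 (((-1 : ℤ) : F) * (-1) * 1) * (nG inB2 (chevB2.simple 0) 1)⁻¹) := by
    calc nG inB2 (chevB2.simple 0) 1 * (xG inB2 5 (1 : F))⁻¹ * (xG inB2 4 1 * xG inB2 7 1) *
      (nG inB2 (chevB2.simple 0) 1 * (xG inB2 5 (1 : F))⁻¹)⁻¹ = nG inB2 (chevB2.simple 0) 1 *
        ((xG inB2 5 (1 : F))⁻¹ * (xG inB2 4 1 * xG inB2 7 1) * xG inB2 5 1) * (nG inB2 (chevB2.simple 0) 1)⁻¹ := by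
          group
      _ = _ := by rw [e1]; group
  rw [e2, (h1 _).1, (h2 _).1, show chevB2.reflectRoot 0 4 = 7 by decide +kernel,
    show chevB2.reflectRoot 0 6 = 6 by decide +kernel]
  exact Subgroup.mul_mem _ (xG_mem_Q inB2 (by decide) (by decide +kernel) _)
    (xG_mem_Q inB2 (by decide) (by decide +kernel) _)

end Cfsg.Agent.H86.Par
end

-- part: H86/T1
section
/-!
# The main theorem on finite overgroups of the fixed group, from local hypotheses
-/

set_option autoImplicit false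

namespace Cfsg.Agent.H86.Par

open Cfsg.Lie Cfsg.Agent.ChevalleyStructure Cfsg.Agent.ChevalleyStructure.RootCombGood
  Cfsg.Agent.ChevalleyStructure.RootWord Cfsg.Agent.ChevalleyStructure.RootVec
  Cfsg.Agent.ChevalleyStructure.RootVecTab Cfsg.Agent.ChevalleyStructure.RootSupport
  Cfsg.Agent.ChevalleyStructure.Elts Cfsg.Agent.ChevalleyStructure.BruhatSplit
  Cfsg.Agent.H86.Lev Cfsg.Agent.H86.Graded Cfsg.Agent.H92.ChevCent Cfsg.Agent.H92.ChevFrob
  Cfsg.Agent.LieClassical.SLTwoUnipotent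

universe u

variable {D : ChevalleyDatum} {F : Type u} [Field F]

/-- rationality of the level one coordinates -/
def KRat (hD : InList D) (f : F →+* F) (H : Subgroup (GL D.Idx F)) : Prop :=
  ∀ v ∈ H, v ∈ Q D F (top D) → ∀ r < D.nroots, car D (top D) r = 1 →
      f (kap D (top D) r (v : Matrix D.Idx D.Idx F)) = kap D (top D) r (v : Matrix D.Idx D.Idx F)

/-- rationality of `e` if `x_a(e) n ∈ H` with `n` rational -/
def ERat (hD : InList D) (f : F →+* F) (H : Subgroup (GL D.Idx F)) : Prop :=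
  ∀ e : F, ∀ n ∈ P F D, n ∈ D.monomialSubgroup F → fr D f n = n → xG hD (top D) e * n ∈ H → f e = e

theorem main_fixed (hD : InList D) {isL : ℕ → Bool} (T : HiP D isL) (TL : HiL D) {l' : List ℤ} (N : HiN D l')
    (hCP : CProp D F hD) (p : ℕ) [Fact p.Prime] [CharP F p] {f : F →+* F} {H : Subgroup (GL D.Idx F)} [Finite H]
    (hH : H ≤ D.group F) (hFL : FL D f ≤ H) (hX : XRat hD f H) (hK : KRat hD f H) (hE : ERat hD f H)
    (hT : p = 2 → HT D F hD f) : ∀ g ∈ H, fr D f g = g := by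
  have hQ : ∀ v ∈ H, v ∈ Q D F (top D) → fr D f v = v := Q_fixed hD hFL hX hK
  have hP : ∀ g ∈ H, g ∈ P F D → fr D f g = g := fixed_of_mem_P hD TL hCP hFL hQ hE
  by_cases hp : p = 2
  · subst hp
    exact even_case hD T TL N hH hFL hP (hT rfl)
  · exact odd_case hD N hp hH hFL hQ hP

theorem krat_of_cst (hD : InList D) {l' : List ℤ} (N : HiN D l') {f : F →+* F} {H : Subgroup (GL D.Idx F)}
    (hl : ∀ c ∈ l', ((c : ℤ) : F) ≠ 0) (hFL : FL D f ≤ H) (hX : XRat hD f H) : KRat hD f H := by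
  intro v hv hvQ r hr h1
  have hchk := N.cs r hr h1
  exact kap_rat hD hFL hX hr h1 hchk (hl _ (chkCst_spec hchk).2.2) hv hvQ

/-- simply laced data -/
theorem simply_laced (hD : InList D) (T : HiP D (fun _ => true)) (TL : HiL D) (TC : HiC D) (N : HiN D [1, -1])
    (TT : HiT D (fun _ => true)) (p : ℕ) [Fact p.Prime] [CharP F p] {f : F →+* F} {H : Subgroup (GL D.Idx F)}
    [Finite H] (hH : H ≤ D.group F) (hFL : FL D f ≤ H) (hX : XRat hD f H) : ∀ g ∈ H, fr D f g = g := by
  refine main_fixed hD T TL N (cprop_of_hiC hD TC) p hH hFL hX (krat_of_cst hD N ?_ hFL hX)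
    (hE_of_long hD T ?_ hFL hX) ?_
  · intro c hc
    simp only [List.mem_cons, List.mem_nil_iff, or_false] at hc
    rcases hc with rfl | rfl <;> simp
  · obtain ⟨r, hr, h1⟩ := TL.ex1
    refine ⟨D.neg r, RootWord.neg_lt (good hD) hr, rfl, ?_⟩
    show car D (top D) (D.neg r) = -1
    rw [car_neg_right (good hD) _ hr, h1]
  · intro hp
    subst hp
    exact ht_of_hiT hD T (fun _ _ _ => rfl) TT f

end Cfsg.Agent.H86.Par
end

-- part: H86/Special
section
/-!
# The special characteristics: `F₄` for `p = 2`, `G₂` for `p = 3`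
-/

set_option autoImplicit false

namespace Cfsg.Agent.H86.Par

open Cfsg.Lie Cfsg.Agent.ChevalleyStructure Cfsg.Agent.ChevalleyStructure.RootCombGood
  Cfsg.Agent.ChevalleyStructure.RootWord Cfsg.Agent.ChevalleyStructure.RootVec
  Cfsg.Agent.ChevalleyStructure.RootVecTab Cfsg.Agent.ChevalleyStructure.RootSupport
  Cfsg.Agent.ChevalleyStructure.Elts Cfsg.Agent.ChevalleyStructure.BruhatSplit
  Cfsg.Agent.H86.Lev Cfsg.Agent.H86.Graded Cfsg.Agent.H92.ChevCent Cfsg.Agent.H92.ChevFrob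
  Cfsg.Agent.LieClassical.SLTwoUnipotent

universe u

variable {D : ChevalleyDatum} {F : Type u} [Field F]

/-- the commutator terms with non-zero coefficients in characteristic `p` -/
def red (D : ChevalleyDatum) (p r s : ℕ) : List (ℕ × ℤ × ℕ × ℕ) :=
  (D.commTerms r s).filter fun q => !decide ((p : ℤ) ∣ q.2.1)

theorem word_filter (hD : InList D) (g : ℕ × ℤ × ℕ × ℕ → ℕ × F) (P : ℕ × ℤ × ℕ × ℕ → Bool) :
    ∀ l : List (ℕ × ℤ × ℕ × ℕ), (∀ q ∈ l, P q = false → (g q).2 = 0) →
      wordG hD (l.map g) = wordG hD ((l.filter P).map g)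
  | [], _ => rfl
  | q :: l, h => by
    have ih := word_filter hD g P l fun q hq => h q (List.mem_cons_of_mem _ hq)
    rw [List.map_cons, wordG_cons, ih]
    by_cases hq : P q = true
    · rw [List.filter_cons_of_pos hq, List.map_cons, wordG_cons]
    · have hq' : P q = false := by simpa using hq
      rw [List.filter_cons_of_neg hq, h q List.mem_cons_self hq', xG_zero, one_mul]

theorem comm_red (hD : InList D) (p : ℕ) [CharP F p] {r s : ℕ} (hr : r < D.nroots) (hs : s < D.nroots)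
    (hrs : s ≠ r) (hneg : s ≠ D.neg r) (t v : F) :
    xG hD s v * xG hD r t = xG hD r t * xG hD s v *
      wordG hD ((red D p r s).map fun c => (c.1, (c.2.1 : F) * (-t) ^ c.2.2.1 * v ^ c.2.2.2)) := by
  rw [UnipProd.xG_comm hD hr hs hrs hneg]
  congr 1
  unfold ChevalleyDatum.commWord red
  refine word_filter hD _ _ _ fun q _ hq => ?_
  have h1 : (p : ℤ) ∣ q.2.1 := by simpa using hq
  have h2 : ((q.2.1 : ℤ) : F) = 0 := (CharP.intCast_eq_zero_iff F p _).2 h1
  simp only [h2, zero_mul]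

theorem red_ne (p : ℕ) [CharP F p] {r s : ℕ} {q : ℕ × ℤ × ℕ × ℕ} (h : q ∈ red D p r s) :
    ((q.2.1 : ℤ) : F) ≠ 0 := by
  intro h0
  have h1 := (CharP.intCast_eq_zero_iff F p _).1 h0
  have h2 := (List.mem_filter.1 h).2
  simp only [Bool.not_eq_true', decide_eq_false_iff_not] at h2
  exact h2 h1

theorem Wd_comm (hD : InList D) {X : GL D.Idx F} {r γ : ℕ} {κ z₀ : F} (hγ : γ < D.nroots) (h1γ : car D (top D) γ = 1)
    (c : ℕ → F) (hX : ∀ z : F, xG hD (top D) z * X = X * xG hD (top D) z)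
    (hr : xG hD r (c r) * X = X * xG hD r (c r) * (xG hD γ κ * xG hD (top D) z₀)) : ∀ l : List ℕ, l.Nodup →
    (∀ m ∈ l, m < D.nroots ∧ car D (top D) m = 1) →
    (∀ m ∈ l, m ≠ r → xG hD m (c m) * X = X * xG hD m (c m)) →
    ∃ z : F, Wd hD l c * X = X * Wd hD l c * ((if r ∈ l then xG hD γ κ else 1) * xG hD (top D) z)
  | [], _, _, _ => ⟨0, by
      rw [if_neg List.not_mem_nil, xG_zero]
      show (1 : GL D.Idx F) * X = X * 1 * (1 * 1)
      simp⟩
  | m :: l, hn, hl, h => by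
    have G := good hD
    have T := hiT hD
    have hn' := List.nodup_cons.1 hn
    have hl' : ∀ m ∈ l, m < D.nroots ∧ car D (top D) m = 1 := fun m hm => hl m (List.mem_cons_of_mem _ hm)
    obtain ⟨z, hz⟩ := Wd_comm hD hγ h1γ c hX hr l hn'.2 hl' fun m hm => h m (List.mem_cons_of_mem _ hm)
    have hW : Wd hD l c ∈ Q D F (top D) := Wd_mem_Q hD l c hl'
    rw [Wd_cons]
    by_cases hmr : m = r
    · subst hmr
      rw [if_neg hn'.1, one_mul] at hz
      obtain ⟨z', hz'⟩ := comm_Q hD hγ h1γ.ge κ hW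
      have h2 := Q_comm_top hD G T hW z₀
      have h3 := Q_comm_top hD G T hW z'
      refine ⟨z₀ + -z' + z, ?_⟩
      rw [if_pos List.mem_cons_self]
      have h4 : xG hD γ κ * Wd hD l c = Wd hD l c * xG hD γ κ * xG hD (top D) (-z') := by
        rw [hz', ← xG_inv]; group
      have h5 := Q_comm_top hD G T (xG_mem_Q hD hγ h1γ.ge κ) z₀
      calc xG hD m (c m) * Wd hD l c * X = xG hD m (c m) * (Wd hD l c * X) := by group
        _ = (xG hD m (c m) * X) * Wd hD l c * xG hD (top D) z := by rw [hz]; group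
        _ = X * xG hD m (c m) * (xG hD γ κ * (xG hD (top D) z₀ * Wd hD l c)) * xG hD (top D) z := by rw [hr]; group
        _ = X * xG hD m (c m) * ((xG hD γ κ * Wd hD l c) * xG hD (top D) z₀) * xG hD (top D) z := by
            rw [← h2]; group
        _ = X * xG hD m (c m) * (Wd hD l c * xG hD γ κ * xG hD (top D) (-z') * xG hD (top D) z₀) *
              xG hD (top D) z := by rw [h4]
        _ = X * (xG hD m (c m) * Wd hD l c) * (xG hD γ κ * (xG hD (top D) (-z') * xG hD (top D) z₀ *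
              xG hD (top D) z)) := by group
        _ = _ := by rw [xG_add, xG_add, add_comm (-z') z₀]
    · have h2 := h m List.mem_cons_self hmr
      refine ⟨z, ?_⟩
      have h3 : (r ∈ m :: l) ↔ r ∈ l := by
        rw [List.mem_cons]
        constructor
        · rintro (h | h)
          · exact absurd h.symm hmr
          · exact h
        · exact Or.inr
      rw [show (if r ∈ m :: l then xG hD γ κ else (1 : GL D.Idx F)) = if r ∈ l then xG hD γ κ else 1 by
        simp only [h3]]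
      calc xG hD m (c m) * Wd hD l c * X = xG hD m (c m) * (Wd hD l c * X) := by group
        _ = (xG hD m (c m) * X) * Wd hD l c * ((if r ∈ l then xG hD γ κ else 1) * xG hD (top D) z) := by
            rw [hz]; group
        _ = _ := by rw [h2]; group

/-- the table check for `krat_special` -/
def chkS (D : ChevalleyDatum) (p : ℕ) (S : ℕ → Bool) (r s γ s' γ' : ℕ) : Bool :=
  decide (s < D.nroots) && decide (γ < D.nroots) && decide (s' < D.nroots) && decide (γ' < D.nroots) &&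
  decide (car D (D.nroots - 1) s = 0) && decide (car D (D.nroots - 1) γ = 1) &&
  decide (car D (D.nroots - 1) s' = 0) && decide (car D (D.nroots - 1) γ' = 1) &&
  (match red D p s r with
    | [(u, _, i, j)] => Nat.beq u γ && Nat.beq i 1 && Nat.beq j 1
    | [(u, _, i, j), (u', _, _, _)] => Nat.beq u γ && Nat.beq i 1 && Nat.beq j 1 && Nat.beq u' (D.nroots - 1)
    | _ => false) &&
  decide (∀ m < D.nroots, car D (D.nroots - 1) m = 1 → S m = false → m ≠ r → red D p s m = []) &&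
  (match red D p s' γ with
    | [(u, _, i, j)] => Nat.beq u γ' && Nat.beq i 1 && Nat.beq j 1
    | _ => false)

theorem match1 {l : List (ℕ × ℤ × ℕ × ℕ)} {γ t : ℕ} (h : (match l with
    | [(u, _, i, j)] => Nat.beq u γ && Nat.beq i 1 && Nat.beq j 1
    | [(u, _, i, j), (u', _, _, _)] => Nat.beq u γ && Nat.beq i 1 && Nat.beq j 1 && Nat.beq u' t
    | _ => false) = true) : ∃ c : ℤ, l = [(γ, c, 1, 1)] ∨ ∃ c' i' j', l = [(γ, c, 1, 1), (t, c', i', j')] := by
  split at h
  · rename_i u c i j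
    simp only [Bool.and_eq_true] at h
    obtain ⟨⟨h1, h2⟩, h3⟩ := h
    have h1 := Nat.eq_of_beq_eq_true h1
    have h2 := Nat.eq_of_beq_eq_true h2
    have h3 := Nat.eq_of_beq_eq_true h3
    exact ⟨c, Or.inl (by rw [h1, h2, h3])⟩
  · rename_i u c i j u' c' i' j'
    simp only [Bool.and_eq_true] at h
    obtain ⟨⟨⟨h1, h2⟩, h3⟩, h4⟩ := h
    have h1 := Nat.eq_of_beq_eq_true h1
    have h2 := Nat.eq_of_beq_eq_true h2
    have h3 := Nat.eq_of_beq_eq_true h3
    have h4 := Nat.eq_of_beq_eq_true h4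
    exact ⟨c, Or.inr ⟨c', i', j', by rw [h1, h2, h3, h4]⟩⟩
  · exact absurd h (by simp)

theorem match2 {l : List (ℕ × ℤ × ℕ × ℕ)} {γ : ℕ} (h : (match l with
    | [(u, _, i, j)] => Nat.beq u γ && Nat.beq i 1 && Nat.beq j 1
    | _ => false) = true) : ∃ c : ℤ, l = [(γ, c, 1, 1)] := by
  split at h
  · rename_i u c i j
    simp only [Bool.and_eq_true] at h
    obtain ⟨⟨h1, h2⟩, h3⟩ := h
    have h1 := Nat.eq_of_beq_eq_true h1
    have h2 := Nat.eq_of_beq_eq_true h2
    have h3 := Nat.eq_of_beq_eq_true h3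
    exact ⟨c, by rw [h1, h2, h3]⟩
  · exact absurd h (by simp)

theorem krat_special (hD : InList D) (p : ℕ) [CharP F p] {f : F →+* F} {H : Subgroup (GL D.Idx F)}
    (hFL : FL D f ≤ H) (hX : XRat hD f H) (S : ℕ → Bool)
    (hS : ∀ v ∈ H, v ∈ Q D F (top D) → ∀ r < D.nroots, car D (top D) r = 1 → S r = true →
      f (kap D (top D) r (v : Matrix D.Idx D.Idx F)) = kap D (top D) r (v : Matrix D.Idx D.Idx F))
    (htab : ∀ r < D.nroots, car D (top D) r = 1 → S r = false → ∃ s γ s' γ' : ℕ, chkS D p S r s γ s' γ' = true) :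
    KRat hD f H := by
  have G := good hD
  have T := hiT hD
  intro v hv hvQ r hr h1
  by_cases hSr : S r = true
  · exact hS v hv hvQ r hr h1 hSr
  replace hSr : S r = false := by simpa using hSr
  obtain ⟨s, γ, s', γ', hchk⟩ := htab r hr h1 hSr
  unfold chkS at hchk
  simp only [Bool.and_eq_true, decide_eq_true_eq] at hchk
  obtain ⟨⟨⟨⟨⟨⟨⟨⟨⟨⟨hs, hγ⟩, hs'⟩, hγ'⟩, ls⟩, lγ⟩, ls'⟩, lγ'⟩, hm1⟩, hm⟩, hm2⟩ := hchk
  have hlne : ∀ {x y : ℕ}, y < D.nroots → car D (top D) x = 1 → car D (top D) y = 0 → x ≠ y ∧ x ≠ D.neg y := by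
    intro x y hy hx hy0
    constructor
    · rintro rfl; omega
    · rintro rfl
      rw [car_neg_right G _ hy, hy0] at hx
      norm_num at hx
  -- strip the coordinates in `S`
  set W : GL D.Idx F := Wd hD (lev1 D (top D)) (fun m => if S m = true then kap D (top D) m
    (v : Matrix D.Idx D.Idx F) else 0) with hW
  have hl1 : ∀ m ∈ lev1 D (top D), m < D.nroots ∧ car D (top D) m = 1 := fun m hm => mem_lev1.1 hm
  have hWQ : W ∈ Q D F (top D) := Wd_mem_Q hD _ _ hl1
  have hWF : W ∈ FL D f := by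
    refine mem_of_xG_mem hD ?_
    intro q hq
    obtain ⟨m, hmm, rfl⟩ := List.mem_map.1 hq
    have hm' := hl1 m hmm
    refine xG_mem_FL hD m ?_
    by_cases hSm : S m = true
    · simp only [if_pos hSm]; exact hS v hv hvQ m hm'.1 hm'.2 hSm
    · simp only [if_neg hSm]; exact map_zero f
  obtain ⟨v', hv'⟩ : ∃ v' : GL D.Idx F, v' = W⁻¹ * v := ⟨_, rfl⟩
  have hv'H : v' ∈ H := by rw [hv']; exact Subgroup.mul_mem _ (Subgroup.inv_mem _ (hFL hWF)) hv
  have hv'Q : v' ∈ Q D F (top D) := by rw [hv']; exact Subgroup.mul_mem _ (Subgroup.inv_mem _ hWQ) hvQ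
  have hkap : ∀ m < D.nroots, car D (top D) m = 1 → kap D (top D) m (v' : Matrix D.Idx D.Idx F) =
      if S m = true then 0 else kap D (top D) m (v : Matrix D.Idx D.Idx F) := by
    intro m hm hm1
    rw [hv', kap_add hD G T hm hm1 (Subgroup.inv_mem _ hWQ) hvQ, kap_inv hD G T hm hm1 hWQ, hW,
      kap_Wd hD G T hm hm1 _ _ hl1 nodup_lev1, if_pos (mem_lev1.2 ⟨hm, hm1⟩)]
    by_cases hSm : S m = true
    · simp only [if_pos hSm]; ring
    · simp only [if_neg hSm]; ring
  obtain ⟨z₀, hform⟩ := form hD G T hv'Q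
  obtain ⟨c1, hc1⟩ := match1 hm1
  obtain ⟨c2, hc2⟩ := match2 hm2
  have hc1ne : ((c1 : ℤ) : F) ≠ 0 := by
    rcases hc1 with h | ⟨c', i', j', h⟩
    · exact red_ne p (r := s) (s := r) (D := D) (q := (γ, c1, 1, 1)) (by rw [h]; exact List.mem_singleton_self _)
    · exact red_ne p (r := s) (s := r) (D := D) (q := (γ, c1, 1, 1)) (by rw [h]; exact List.mem_cons_self)
  have hc2ne : ((c2 : ℤ) : F) ≠ 0 :=
    red_ne p (r := s') (s := γ) (D := D) (q := (γ', c2, 1, 1)) (by rw [hc2]; exact List.mem_singleton_self _)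
  set k : F := kap D (top D) r (v : Matrix D.Idx D.Idx F) with hk
  have hkr : kap D (top D) r (v' : Matrix D.Idx D.Idx F) = k := by
    rw [hkap r hr h1, if_neg (by rw [hSr]; decide)]
  set X : GL D.Idx F := xG hD s 1 with hXd
  have hXF : X ∈ FL D f := xG_mem_FL hD s (map_one f)
  have hrs := hlne hs h1 ls
  have hr2 : ∃ z : F, xG hD r k * X = X * xG hD r k * (xG hD γ (((c1 : ℤ) : F) * (-1) ^ 1 * k ^ 1) *
      xG hD (top D) z) := by
    rw [hXd, comm_red hD p hs hr hrs.1 hrs.2]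
    rcases hc1 with h | ⟨c', i', j', h⟩
    · refine ⟨0, ?_⟩
      rw [h]
      simp only [List.map_cons, List.map_nil, wordG_cons, wordG_nil, xG_zero]
    · refine ⟨((c' : ℤ) : F) * (-1) ^ i' * k ^ j', ?_⟩
      rw [h]
      simp only [List.map_cons, List.map_nil, wordG_cons, wordG_nil, mul_one]
  obtain ⟨z₁, hr2⟩ := hr2
  have hXtop : ∀ z : F, xG hD (top D) z * X = X * xG hD (top D) z := fun z =>
    (comm_top0 hD hs ls.ge 1 z).symm
  obtain ⟨z₂, hz₂⟩ := Wd_comm hD (X := X) (r := r) (γ := γ) hγ lγ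
    (fun m => kap D (top D) m (v' : Matrix D.Idx D.Idx F)) hXtop (by
      simp only [hkr]; exact hr2) (lev1 D (top D)) nodup_lev1 hl1 (by
      intro m hmm hmr
      have hm' := hl1 m hmm
      rw [hkap m hm'.1 hm'.2]
      by_cases hSm : S m = true
      · rw [if_pos hSm, xG_zero, one_mul, mul_one]
      · rw [if_neg hSm]
        have hms := hlne hs hm'.2 ls
        rw [hXd, comm_red hD p hs hm'.1 hms.1 hms.2, hm m hm'.1 hm'.2 (by simpa using hSm) hmr, List.map_nil,
          wordG_nil, mul_one])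
  rw [if_pos (mem_lev1.2 ⟨hr, h1⟩)] at hz₂
  set W' : GL D.Idx F := Wd hD (lev1 D (top D)) (fun m => kap D (top D) m (v' : Matrix D.Idx D.Idx F)) with hW'
  set κ : F := ((c1 : ℤ) : F) * (-1) ^ 1 * k ^ 1 with hκ
  have hγtop := Q_comm_top hD G T (xG_mem_Q hD hγ lγ.ge κ) z₀
  have e1 : v' * X = X * v' * (xG hD γ κ * xG hD (top D) z₂) := by
    have h5 := Q_comm_top hD G T (Subgroup.mul_mem _ (xG_mem_Q hD hγ lγ.ge κ)
      (xG_mem_Q hD T.lt (by rw [car_top hD]; norm_num) z₂)) z₀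
    calc v' * X = W' * (xG hD (top D) z₀ * X) := by rw [hform]; group
      _ = (W' * X) * xG hD (top D) z₀ := by rw [hXtop]; group
      _ = X * W' * ((xG hD γ κ * xG hD (top D) z₂) * xG hD (top D) z₀) := by rw [hz₂]; group
      _ = X * (W' * xG hD (top D) z₀) * (xG hD γ κ * xG hD (top D) z₂) := by rw [h5]; group
      _ = _ := by rw [← hform]
  have hy : xG hD γ κ * xG hD (top D) z₂ ∈ H := mem_of_comm (hFL hXF) hv'H e1
  set X' : GL D.Idx F := xG hD s' 1 with hX'd
  have hX'F : X' ∈ FL D f := xG_mem_FL hD s' (map_one f)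
  have hγs := hlne hs' lγ ls'
  have e2 : (xG hD γ κ * xG hD (top D) z₂) * X' = X' * (xG hD γ κ * xG hD (top D) z₂) *
      xG hD γ' (((c2 : ℤ) : F) * (-1) ^ 1 * κ ^ 1) := by
    have h6 : xG hD (top D) z₂ * X' = X' * xG hD (top D) z₂ := (comm_top0 hD hs' ls'.ge 1 z₂).symm
    have h7 : xG hD γ κ * X' = X' * xG hD γ κ * xG hD γ' (((c2 : ℤ) : F) * (-1) ^ 1 * κ ^ 1) := by
      rw [hX'd, comm_red hD p hs' hγ hγs.1 hγs.2, hc2]
      simp only [List.map_cons, List.map_nil, wordG_cons, wordG_nil, mul_one]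
    have h8 := comm_top0 hD hγ' (by rw [lγ']; norm_num) (((c2 : ℤ) : F) * (-1) ^ 1 * κ ^ 1) z₂
    calc (xG hD γ κ * xG hD (top D) z₂) * X' = xG hD γ κ * (xG hD (top D) z₂ * X') := by group
      _ = (xG hD γ κ * X') * xG hD (top D) z₂ := by rw [h6]; group
      _ = X' * xG hD γ κ * (xG hD γ' (((c2 : ℤ) : F) * (-1) ^ 1 * κ ^ 1) * xG hD (top D) z₂) := by rw [h7]; group
      _ = _ := by rw [h8]; group
  have hy2 := mem_of_comm (hFL hX'F) hy e2
  have h9 := hX γ' hγ' _ hy2
  rw [hκ] at h9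
  simp only [pow_one, map_mul, map_neg, map_one, map_intCast] at h9
  have h10 : (((c1 : ℤ) : F) * ((c2 : ℤ) : F)) * (f k - k) = 0 := by linear_combination h9
  exact sub_eq_zero.1 ((mul_eq_zero.1 h10).resolve_left (mul_ne_zero hc1ne hc2ne))

end Cfsg.Agent.H86.Par
end

-- part: H86/TabLS
section
set_option autoImplicit false
set_option maxHeartbeats 0

namespace Cfsg.Agent.H86.Lev

open Cfsg.Lie Cfsg.Agent.ChevalleyStructure

theorem hlG2 : HiL chevG2 where
  ex1 := by decide +kernel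
  lev0 := by decide +kernel

theorem hlB2 : HiL chevB2 where
  ex1 := by decide +kernel
  lev0 := by decide +kernel

theorem hcB2 : HiC chevB2 := by decide +kernel

theorem hlD4 : HiL chevD4 where
  ex1 := by decide +kernel
  lev0 := by decide +kernel

theorem hcD4 : HiC chevD4 := by decide +kernel

theorem hlF4 : HiL chevF4 where
  ex1 := by decide +kernel
  lev0 := by decide +kernel

theorem hcF4 : HiC chevF4 := by decide +kernel

theorem hlE6 : HiL chevE6 where
  ex1 := by decide +kernel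
  lev0 := by decide +kernel

theorem hcE6 : HiC chevE6 := by decide +kernel

end Cfsg.Agent.H86.Lev
end

-- part: H86/SpecialG
section
/-!
# `CProp` for `G₂`; the theorem on finite overgroups for `F₄` and `G₂`
-/

set_option autoImplicit false
set_option maxHeartbeats 0

namespace Cfsg.Agent.H86.Par

open Cfsg.Lie Cfsg.Agent.ChevalleyStructure Cfsg.Agent.ChevalleyStructure.RootCombGood
  Cfsg.Agent.ChevalleyStructure.RootWord Cfsg.Agent.ChevalleyStructure.RootVec
  Cfsg.Agent.ChevalleyStructure.RootVecTab Cfsg.Agent.ChevalleyStructure.RootSupport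
  Cfsg.Agent.ChevalleyStructure.Elts Cfsg.Agent.ChevalleyStructure.BruhatSplit
  Cfsg.Agent.H86.Lev Cfsg.Agent.H86.Graded Cfsg.Agent.H92.ChevCent Cfsg.Agent.H92.ChevFrob
  Cfsg.Agent.LieClassical.SLTwoUnipotent

universe u

variable {D : ChevalleyDatum} {F : Type u} [Field F]

theorem kap_zero_of_comm (hD : InList D) {l : List ℤ} {r : ℕ} (hr : r < D.nroots) (h1 : car D (top D) r = 1)
    (hchk : chkCst D l r = true) (hne : ((cst D r : ℤ) : F) ≠ 0) {v : GL D.Idx F} (hvQ : v ∈ Q D F (top D)) {t : F}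
    (ht : t ≠ 0) (hcomm : xG hD (D.neg (pt D (top D) r)) t * v = v * xG hD (D.neg (pt D (top D) r)) t) :
    kap D (top D) r (v : Matrix D.Idx D.Idx F) = 0 := by
  obtain ⟨hcst, hrs, -⟩ := chkCst_spec hchk
  have h2 := comm_coord hD hr h1 hcst hrs hvQ t
  rw [← hcomm] at h2
  have h3 := (mul_eq_left (a := xG hD (D.neg (pt D (top D) r)) t * v)).1 h2.symm
  rw [xG_eq_one_iff hD (top_lt hD)] at h3
  rcases mul_eq_zero.1 h3 with h4 | h4
  · rcases mul_eq_zero.1 h4 with h5 | h5
    · exact absurd h5 hne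
    · exact absurd (neg_eq_zero.1 h5) ht
  · exact h4

/-- the commutator of `v ∈ Q`, without coordinates in `S`, with `x_s(t)` -/
theorem comm_strip (hD : InList D) (p : ℕ) [CharP F p] {S : ℕ → Bool} {r s γ s' γ' : ℕ} (hr : r < D.nroots)
    (h1 : car D (top D) r = 1) (hchk : chkS D p S r s γ s' γ' = true) {v : GL D.Idx F} (hvQ : v ∈ Q D F (top D))
    (hS : ∀ m < D.nroots, car D (top D) m = 1 → S m = true → kap D (top D) m (v : Matrix D.Idx D.Idx F) = 0) (t : F) :
    ∃ (c z : F), c ≠ 0 ∧ v * xG hD s t = xG hD s t * v * (xG hD γ (c * t * kap D (top D) r (v : Matrix D.Idx D.Idx F)) *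
      xG hD (top D) z) := by
  have G := good hD
  have T := hiT hD
  unfold chkS at hchk
  simp only [Bool.and_eq_true, decide_eq_true_eq] at hchk
  obtain ⟨⟨⟨⟨⟨⟨⟨⟨⟨⟨hs, hγ⟩, hs'⟩, hγ'⟩, ls⟩, lγ⟩, ls'⟩, lγ'⟩, hm1⟩, hm⟩, hm2⟩ := hchk
  have hlne : ∀ {x y : ℕ}, y < D.nroots → car D (top D) x = 1 → car D (top D) y = 0 → x ≠ y ∧ x ≠ D.neg y := by
    intro x y hy hx hy0
    constructor
    · rintro rfl; omega
    · rintro rfl
      rw [car_neg_right G _ hy, hy0] at hx
      norm_num at hx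
  have hl1 : ∀ m ∈ lev1 D (top D), m < D.nroots ∧ car D (top D) m = 1 := fun m hm => mem_lev1.1 hm
  obtain ⟨z₀, hform⟩ := form hD G T hvQ
  obtain ⟨c1, hc1⟩ := match1 hm1
  have hc1ne : ((c1 : ℤ) : F) ≠ 0 := by
    rcases hc1 with h | ⟨c', i', j', h⟩
    · exact red_ne p (r := s) (s := r) (D := D) (q := (γ, c1, 1, 1)) (by rw [h]; exact List.mem_singleton_self _)
    · exact red_ne p (r := s) (s := r) (D := D) (q := (γ, c1, 1, 1)) (by rw [h]; exact List.mem_cons_self)
  set k : F := kap D (top D) r (v : Matrix D.Idx D.Idx F) with hk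
  set X : GL D.Idx F := xG hD s t with hXd
  have hrs := hlne hs h1 ls
  have hr2 : ∃ z : F, xG hD r k * X = X * xG hD r k * (xG hD γ (((c1 : ℤ) : F) * (-t) ^ 1 * k ^ 1) *
      xG hD (top D) z) := by
    rw [hXd, comm_red hD p hs hr hrs.1 hrs.2]
    rcases hc1 with h | ⟨c', i', j', h⟩
    · refine ⟨0, ?_⟩
      rw [h]
      simp only [List.map_cons, List.map_nil, wordG_cons, wordG_nil, xG_zero]
    · refine ⟨((c' : ℤ) : F) * (-t) ^ i' * k ^ j', ?_⟩
      rw [h]
      simp only [List.map_cons, List.map_nil, wordG_cons, wordG_nil, mul_one]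
  obtain ⟨z₁, hr2⟩ := hr2
  have hXtop : ∀ z : F, xG hD (top D) z * X = X * xG hD (top D) z := fun z =>
    (comm_top0 hD hs ls.ge t z).symm
  obtain ⟨z₂, hz₂⟩ := Wd_comm hD (X := X) (r := r) (γ := γ) hγ lγ
    (fun m => kap D (top D) m (v : Matrix D.Idx D.Idx F)) hXtop hr2 (lev1 D (top D)) nodup_lev1 hl1 (by
      intro m hmm hmr
      have hm' := hl1 m hmm
      by_cases hSm : S m = true
      · rw [hS m hm'.1 hm'.2 hSm, xG_zero, one_mul, mul_one]
      · have hms := hlne hs hm'.2 ls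
        rw [hXd, comm_red hD p hs hm'.1 hms.1 hms.2, hm m hm'.1 hm'.2 (by simpa using hSm) hmr, List.map_nil,
          wordG_nil, mul_one])
  rw [if_pos (mem_lev1.2 ⟨hr, h1⟩)] at hz₂
  set W' : GL D.Idx F := Wd hD (lev1 D (top D)) (fun m => kap D (top D) m (v : Matrix D.Idx D.Idx F)) with hW'
  have hκ : ((c1 : ℤ) : F) * (-t) ^ 1 * k ^ 1 = (-((c1 : ℤ) : F)) * t * k := by ring
  rw [hκ] at hz₂
  set κ : F := (-((c1 : ℤ) : F)) * t * k
  refine ⟨-((c1 : ℤ) : F), z₂, neg_ne_zero.2 hc1ne, ?_⟩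
  have h5 := Q_comm_top hD G T (Subgroup.mul_mem _ (xG_mem_Q hD hγ lγ.ge κ)
      (xG_mem_Q hD T.lt (by rw [car_top hD]; norm_num) z₂)) z₀
  calc v * X = W' * (xG hD (top D) z₀ * X) := by rw [hform]; group
      _ = (W' * X) * xG hD (top D) z₀ := by rw [hXtop]; group
      _ = X * W' * ((xG hD γ κ * xG hD (top D) z₂) * xG hD (top D) z₀) := by rw [hz₂]; group
      _ = X * (W' * xG hD (top D) z₀) * (xG hD γ κ * xG hD (top D) z₂) := by rw [h5]; group
      _ = _ := by rw [← hform]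

/-! ### `G₂` -/

theorem g2_cst : ∀ r < chevG2.nroots, car chevG2 (chevG2.nroots - 1) r = 1 → longG2 r = true →
    chkCst chevG2 [1, -1] r = true := by decide +kernel

theorem g2_neg : ∀ s < chevG2.nroots, longG2 s = true → longG2 (chevG2.neg s) = true := by decide +kernel

theorem f4_neg : ∀ s < chevF4.nroots, longF4 s = true → longF4 (chevF4.neg s) = true := by decide +kernel

theorem f4_cst : ∀ r < chevF4.nroots, car chevF4 (chevF4.nroots - 1) r = 1 → longF4 r = true →
    chkCst chevF4 [1, -1] r = true := by decide +kernel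

def witG (r : ℕ) : ℕ × ℕ × ℕ × ℕ := if r = 8 then (7, 9, 4, 8) else (4, 8, 7, 9)

theorem g2_tab : ∀ r < chevG2.nroots, car chevG2 (chevG2.nroots - 1) r = 1 → longG2 r = false →
    chkS chevG2 3 longG2 r (witG r).1 (witG r).2.1 (witG r).2.2.1 (witG r).2.2.2 = true := by decide +kernel

def witF (r : ℕ) : ℕ × ℕ × ℕ × ℕ :=
  if r = 29 then (41, 44, 10, 36) else if r = 36 then (30, 40, 10, 29) else if r = 38 then (25, 39, 12, 29)
  else if r = 39 then (22, 38, 13, 29) else if r = 40 then (17, 36, 14, 29) else (6, 29, 33, 36)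

theorem f4_tab : ∀ r < chevF4.nroots, car chevF4 (chevF4.nroots - 1) r = 1 → longF4 r = false →
    chkS chevF4 2 longF4 r (witF r).1 (witF r).2.1 (witF r).2.2.1 (witF r).2.2.2 = true := by decide +kernel

theorem pm_ne {c : ℤ} (hc : c ∈ [(1 : ℤ), -1]) : ((c : ℤ) : F) ≠ 0 := by
  simp only [List.mem_cons, List.mem_nil_iff, or_false] at hc
  rcases hc with rfl | rfl <;> simp

theorem int_ne {p : ℕ} [Fact p.Prime] [CharP F p] {c : ℤ} {q : ℕ} (hq : q.Prime) (hp : p ≠ q)
    (hc : c = 1 ∨ c = -1 ∨ c = q ∨ c = -q) : ((c : ℤ) : F) ≠ 0 := by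
  have hqF : ((q : ℕ) : F) ≠ 0 := by
    intro h
    rw [CharP.cast_eq_zero_iff F p] at h
    exact hp ((Nat.prime_dvd_prime_iff_eq Fact.out hq).1 h)
  rcases hc with rfl | rfl | rfl | rfl
  · simp
  · simp
  · simpa using hqF
  · simpa using hqF

theorem cprop_G2 (p : ℕ) [Fact p.Prime] [CharP F p] : CProp chevG2 F inG2 := by
  intro v hv hcomm r hr h1
  have G := good inG2
  have T := hiT inG2
  have hN := hnG2.cs
  have hpt : ∀ r < chevG2.nroots, car chevG2 (top chevG2) r = 1 →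
      chevG2.neg (pt chevG2 (top chevG2) r) < chevG2.nroots ∧
      0 ≤ car chevG2 (top chevG2) (chevG2.neg (pt chevG2 (top chevG2) r)) := by decide +kernel
  have key : ∀ r < chevG2.nroots, car chevG2 (top chevG2) r = 1 → ((cst chevG2 r : ℤ) : F) ≠ 0 →
      kap chevG2 (top chevG2) r (v : Matrix chevG2.Idx chevG2.Idx F) = 0 := by
    intro r hr h1 hne
    obtain ⟨t, ht, hc⟩ := hcomm _ (hpt r hr h1).1 (hpt r hr h1).2
    exact kap_zero_of_comm inG2 hr h1 (hN r hr h1) hne hv ht hc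
  by_cases hp : p = 3
  · subst hp
    have hlong : ∀ m < chevG2.nroots, car chevG2 (top chevG2) m = 1 → longG2 m = true →
        kap chevG2 (top chevG2) m (v : Matrix chevG2.Idx chevG2.Idx F) = 0 := by
      intro m hm hm1 hL
      refine key m hm hm1 (pm_ne (chkCst_spec (g2_cst m hm hm1 hL)).2.2)
    by_cases hL : longG2 r = true
    · exact hlong r hr h1 hL
    · have htab := g2_tab r hr h1 (by simpa using hL)
      have hb : (witG r).1 < chevG2.nroots ∧ car chevG2 (top chevG2) (witG r).1 = 0 ∧ (witG r).2.1 < chevG2.nroots ∧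
          car chevG2 (top chevG2) (witG r).2.1 = 1 := by
        have htab' := htab
        unfold chkS at htab'
        simp only [Bool.and_eq_true, decide_eq_true_eq] at htab'
        obtain ⟨⟨⟨⟨⟨⟨⟨⟨⟨⟨hs, hγ⟩, hs'⟩, hγ'⟩, ls⟩, lγ⟩, ls'⟩, lγ'⟩, hm1⟩, hm⟩, hm2⟩ := htab'
        exact ⟨hs, ls, hγ, lγ⟩
      obtain ⟨t, ht, hc⟩ := hcomm _ hb.1 hb.2.1.ge
      obtain ⟨c, z, hc0, h2⟩ := comm_strip inG2 3 hr h1 htab hv hlong t
      rw [← hc] at h2
      have h3 := (mul_eq_left (a := xG inG2 (witG r).1 t * v)).1 h2.symm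
      have h4 : xG inG2 (witG r).2.1 (c * t * kap chevG2 (top chevG2) r (v : Matrix chevG2.Idx chevG2.Idx F)) =
          xG inG2 (top chevG2) (-z) := by
        rw [← xG_inv]; exact eq_inv_of_mul_eq_one_left h3
      by_contra hk
      have h5 := eq_of_xG_eq inG2 hb.2.2.1 (top_lt inG2) (mul_ne_zero (mul_ne_zero hc0 ht) hk) h4
      have h6 := hb.2.2.2
      rw [← h5, car_top inG2] at h6
      norm_num at h6
  · refine key r hr h1 ?_
    refine int_ne (p := p) Nat.prime_three hp ?_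
    have h2 := (chkCst_spec (hN r hr h1)).2.2
    simpa using h2

theorem G2_fixed (p : ℕ) [Fact p.Prime] [CharP F p] {f : F →+* F} {H : Subgroup (GL chevG2.Idx F)}
    [Finite H] (hH : H ≤ chevG2.group F) (hFL : FL chevG2 f ≤ H) (hX : XRat inG2 f H) : ∀ g ∈ H, fr chevG2 f g = g := by
  refine main_fixed inG2 hpG2 hlG2 hnG2 (cprop_G2 p) p hH hFL hX ?_ (hE_of_long inG2 hpG2 ?_ hFL hX) ?_
  · by_cases hp : p = 3
    · subst hp
      refine krat_special inG2 3 hFL hX longG2 (fun v hv hvQ r hr h1 hL => ?_) fun r hr h1 hL =>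
        ⟨_, _, _, _, g2_tab r hr h1 hL⟩
      have hchk := g2_cst r hr h1 hL
      exact kap_rat inG2 hFL hX hr h1 hchk (pm_ne (chkCst_spec hchk).2.2) hv hvQ
    · refine krat_of_cst inG2 hnG2 (fun c hc => ?_) hFL hX
      refine int_ne (p := p) Nat.prime_three hp ?_
      simpa using hc
  · exact ⟨5, by decide, by decide, by decide +kernel⟩
  · intro hp
    subst hp
    exact ht_of_hiT inG2 hpG2 g2_neg htG2 f

theorem F4_fixed (p : ℕ) [Fact p.Prime] [CharP F p] {f : F →+* F} {H : Subgroup (GL chevF4.Idx F)}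
    [Finite H] (hH : H ≤ chevF4.group F) (hFL : FL chevF4 f ≤ H) (hX : XRat inF4 f H) : ∀ g ∈ H, fr chevF4 f g = g := by
  refine main_fixed inF4 hpF4 hlF4 hnF4 (cprop_of_hiC inF4 hcF4) p hH hFL hX ?_ (hE_of_long inF4 hpF4 ?_ hFL hX) ?_
  · by_cases hp : p = 2
    · subst hp
      refine krat_special inF4 2 hFL hX longF4 (fun v hv hvQ r hr h1 hL => ?_) fun r hr h1 hL =>
        ⟨_, _, _, _, f4_tab r hr h1 hL⟩
      have hchk := f4_cst r hr h1 hL
      exact kap_rat inF4 hFL hX hr h1 hchk (pm_ne (chkCst_spec hchk).2.2) hv hvQ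
    · refine krat_of_cst inF4 hnF4 (fun c hc => ?_) hFL hX
      refine int_ne (p := p) Nat.prime_two hp ?_
      simpa using hc
  · exact ⟨23, by decide, by decide, by decide +kernel⟩
  · intro hp
    subst hp
    exact ht_of_hiT inF4 hpF4 f4_neg htF4 f

end Cfsg.Agent.H86.Par
end

-- part: H86/FieldK
section
/-!
# The subfield of all parameters of root elements: two root lengths
-/

set_option autoImplicit false
set_option maxHeartbeats 0

namespace Cfsg.Agent.H86.Par

open Cfsg.Lie Cfsg.Agent.ChevalleyStructure Cfsg.Agent.ChevalleyStructure.RootCombGood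
  Cfsg.Agent.ChevalleyStructure.RootWord Cfsg.Agent.ChevalleyStructure.RootVec
  Cfsg.Agent.ChevalleyStructure.RootVecTab Cfsg.Agent.ChevalleyStructure.RootSupport
  Cfsg.Agent.ChevalleyStructure.Elts Cfsg.Agent.ChevalleyStructure.BruhatSplit
  Cfsg.Agent.H86.Lev Cfsg.Agent.H86.Graded Cfsg.Agent.H92.ChevCent Cfsg.Agent.H92.ChevFrob
  Cfsg.Agent.LieClassical.SLTwoUnipotent

universe u

variable {D : ChevalleyDatum} {F : Type u} [Field F]

/-- the field of parameters -/
def PK (hD : InList D) (H : Subgroup (GL D.Idx F)) : Prop :=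
  ∃ K : Subfield F, ∀ s < D.nroots, ∀ t : F, xG hD s t ∈ H ↔ t ∈ K

theorem hiM_of {isL : ℕ → Bool} (TM : HiM' D isL) : HiM D isL := by
  obtain ⟨r, s, γ, h⟩ := TM
  unfold chkM at h
  simp only [Bool.and_eq_true, Bool.or_eq_true, decide_eq_true_eq] at h
  obtain ⟨⟨⟨⟨⟨⟨⟨⟨hr, hs⟩, hγ⟩, h1⟩, h2⟩, h3⟩, h4⟩, h5⟩, h6⟩ := h
  exact ⟨r, hr, s, hs, h1, h2, h4, h5, γ, hγ, h3, h6⟩

theorem pk_simply_laced {hD : InList D} (T : HiP D (fun _ => true)) (TM : HiM' D (fun _ => true))
    {H : Subgroup (GL D.Idx F)} [Finite H] (h1 : HasOne hD H) : PK hD H := by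
  obtain ⟨K, hK⟩ := exists_field_long h1 T (hiM_of TM)
  exact ⟨K, fun s hs t => hK s hs rfl t⟩

/-- an additive subgroup in characteristic `p` is closed under division by integers prime to `p` -/
theorem of_int_mul {p : ℕ} [Fact p.Prime] [CharP F p] (A : AddSubgroup F) {c : ℤ} (hc : ((c : ℤ) : F) ≠ 0) {a : F}
    (h : ((c : ℤ) : F) * a ∈ A) : a ∈ A := by
  have h1 : IsCoprime c (p : ℤ) := by
    rw [Int.isCoprime_iff_gcd_eq_one]
    have h2 : ¬ (p : ℤ) ∣ c := fun hd => hc ((CharP.intCast_eq_zero_iff F p _).2 hd)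
    have h3 : Nat.Coprime p c.natAbs := by
      rw [Nat.Prime.coprime_iff_not_dvd Fact.out]
      intro hd
      exact h2 (Int.natCast_dvd.2 hd)
    rw [Int.gcd_comm]
    exact h3
  obtain ⟨x, y, hxy⟩ := h1
  have h4 : ((x : ℤ) : F) * ((c : ℤ) : F) = 1 := by
    have := congrArg (fun z : ℤ => (z : F)) hxy
    simp only [Int.cast_add, Int.cast_mul, Int.cast_natCast, CharP.cast_eq_zero, mul_zero, add_zero,
      Int.cast_one] at this
    exact this
  have h5 : a = x • (((c : ℤ) : F) * a) := by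
    rw [zsmul_eq_mul, ← mul_assoc, h4, one_mul]
  rw [h5]
  exact A.zsmul_mem h x

theorem to_dom (hD : InList D) {P : ℕ → Bool} {s₀ : ℕ}
    (hrefl : ∀ s < D.nroots, P s = true → ∀ i < D.rank, P (D.reflectRoot i s) = true)
    (hdom : ∀ s < D.nroots, P s = true → s ≠ s₀ → ∃ i < D.rank, D.cartan i s < 0) : ∀ (m s : ℕ),
    D.nroots - s = m → s < D.nroots → P s = true → ∃ w : List ℕ, (∀ a ∈ w, a < D.rank) ∧ wact D w s = s₀ := by
  intro m
  induction m using Nat.strong_induction_on with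
  | _ m ih =>
  intro s hm hs hL
  have G := good hD
  by_cases hst : s = s₀
  · exact ⟨[], by simp, by rw [wact_nil]; exact hst⟩
  · obtain ⟨i, hi, hneg⟩ := hdom s hs hL hst
    have h1 : s < D.reflectRoot i s := by
      rcases lt_trichotomy (D.reflectRoot i s) s with h | h | h
      · have := (G.reflect_lt_iff hi hs).1 h
        omega
      · have := (G.reflect_eq_iff hi hs).1 h
        omega
      · exact h
    have h2 := G.reflect_lt hi hs
    obtain ⟨w, hw, e⟩ := ih (D.nroots - D.reflectRoot i s) (by omega) _ rfl h2 (hrefl s hs hL i hi)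
    refine ⟨w ++ [i], fun a ha => ?_, ?_⟩
    · rcases List.mem_append.1 ha with ha | ha
      · exact hw a ha
      · rw [List.mem_singleton] at ha
        rw [ha]; exact hi
    · rw [wact_append, wact_cons, wact_nil]
      exact e

theorem par_dom {hD : InList D} {H : Subgroup (GL D.Idx F)} (h1 : HasOne hD H) {P : ℕ → Bool} {s₀ : ℕ}
    (hrefl : ∀ s < D.nroots, P s = true → ∀ i < D.rank, P (D.reflectRoot i s) = true)
    (hdom : ∀ s < D.nroots, P s = true → s ≠ s₀ → ∃ i < D.rank, D.cartan i s < 0) {s : ℕ} (hs : s < D.nroots)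
    (hP : P s = true) : par hD H s = par hD H s₀ := by
  obtain ⟨w, hw, e⟩ := to_dom hD hrefl hdom _ s rfl hs hP
  rw [← e, par_wact h1 w hw s hs]

/-- `x_{r+s}`, `x_{2r+s}`, with `s`, `2r+s` long -/
theorem comm_two (hD : InList D) {r s g l : ℕ} {c c' : ℤ} (hr : r < D.nroots) (hs : s < D.nroots) (hrs : r ≠ s)
    (hneg : r ≠ D.neg s) (h : D.commTerms s r = [(g, c, 1, 1), (l, c', 1, 2)]) (t v : F) :
    xG hD r v * xG hD s t = xG hD s t * xG hD r v *
      (xG hD g (((c : ℤ) : F) * (-t) * v) * xG hD l (((c' : ℤ) : F) * (-t) * v ^ 2)) := by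
  rw [UnipProd.xG_comm hD hs hr hrs hneg]
  congr 1
  unfold ChevalleyDatum.commWord
  rw [h]
  simp only [List.map_cons, List.map_nil, wordG_cons, wordG_nil, mul_one, pow_one]

theorem mem_of_pm {A : AddSubgroup F} {c : ℤ} (hc : c = 1 ∨ c = -1) {t : F} : ((c : ℤ) : F) * t ∈ A ↔ t ∈ A := by
  rcases hc with rfl | rfl
  · simp
  · simp

/-- relations between the parameters of long and short root elements (`B₂`, `F₄`) -/
theorem short_long {hD : InList D} {H : Subgroup (GL D.Idx F)} (h1 : HasOne hD H) {r s g l : ℕ} {c c' : ℤ}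
    (hr : r < D.nroots) (hs : s < D.nroots) (hrs : r ≠ s) (hneg : r ≠ D.neg s) (hc : c = 1 ∨ c = -1)
    (hc' : c' = 1 ∨ c' = -1) (h : D.commTerms s r = [(g, c, 1, 1), (l, c', 1, 2)]) (hsl : par hD H l = par hD H s)
    (hrg : par hD H g = par hD H r) :
    (∀ t ∈ par hD H s, t ∈ par hD H r) ∧ (∀ u ∈ par hD H r, u ^ 2 ∈ par hD H s) := by
  have key : ∀ t ∈ par hD H s, ∀ u ∈ par hD H r, (t * u ∈ par hD H r ↔ t * u ^ 2 ∈ par hD H s) := by
    intro t ht u hu
    have h2 := mem_of_comm (H := H) ht hu (comm_two hD hr hs hrs hneg h t u)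
    rw [← hrg, ← hsl]
    have e1 : (((c : ℤ) : F) * (-t) * u ∈ par hD H g) ↔ t * u ∈ par hD H g := by
      rw [mul_assoc, mem_of_pm hc, neg_mul, neg_mem_iff]
    have e2 : (((c' : ℤ) : F) * (-t) * u ^ 2 ∈ par hD H l) ↔ t * u ^ 2 ∈ par hD H l := by
      rw [mul_assoc, mem_of_pm hc', neg_mul, neg_mem_iff]
    rw [← e1, ← e2, mem_par, mem_par]
    constructor
    · intro h3
      exact (Subgroup.mul_mem_cancel_left H h3).1 h2
    · intro h3
      exact (Subgroup.mul_mem_cancel_right H h3).1 h2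
  constructor
  · intro t ht
    have h2 := key t ht 1 (h1.one_mem hr)
    rw [mul_one, one_pow, mul_one] at h2
    exact h2.2 ht
  · intro u hu
    have h2 := key 1 (h1.one_mem hs) u hu
    rw [one_mul, one_mul] at h2
    exact h2.1 hu

/-- algebra: long parameters form a field -/
theorem eq_of_sq {p : ℕ} [Fact p.Prime] [CharP F p] {A S : AddSubgroup F} [Finite S] (hAS : ∀ t ∈ A, t ∈ S)
    (hSA : ∀ u ∈ S, u ^ 2 ∈ A) (h1 : (1 : F) ∈ A) : ∀ u ∈ S, u ∈ A := by
  by_cases hp : p = 2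
  · subst hp
    -- squaring is injective
    have hfin : Finite A := Finite.of_injective (fun a : A => (⟨a.1, hAS a.1 a.2⟩ : S)) fun a b h =>
      Subtype.ext (congrArg (fun z : S => (z : F)) h)
    have hinj : Function.Injective (fun u : S => (⟨u.1 ^ 2, hSA u.1 u.2⟩ : A)) := by
      intro a b h
      have h2 : (a.1 : F) ^ 2 = b.1 ^ 2 := congrArg Subtype.val h
      apply Subtype.ext
      have h3 : ((a.1 : F) - b.1) ^ 2 = 0 := by
        rw [sub_pow_char_of_commute (p := 2) (h := Commute.all _ _), h2, sub_self]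
      exact sub_eq_zero.1 (pow_eq_zero_iff (two_ne_zero) |>.1 h3)
    have hcard : Nat.card S ≤ Nat.card A := Nat.card_le_card_of_injective _ hinj
    intro u hu
    by_contra hu'
    have h3 : Nat.card A < Nat.card S := by
      have hle : A ≤ S := hAS
      have h4 : A < S := lt_of_le_of_ne hle (by rintro rfl; exact hu' hu)
      have h5 : (A : Set F) ⊂ (S : Set F) := h4
      exact Set.ncard_lt_ncard h5 (Set.toFinite _)
    omega
  · intro u hu
    have h2F : ((2 : ℤ) : F) ≠ 0 := by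
      intro h
      have h3 : ((2 : ℕ) : F) = 0 := by push_cast at h ⊢; exact h
      rw [CharP.cast_eq_zero_iff F p] at h3
      exact hp ((Nat.prime_dvd_prime_iff_eq Fact.out Nat.prime_two).1 h3)
    refine of_int_mul (p := p) A h2F ?_
    have h3 := hSA (u + 1) (S.add_mem hu (hAS 1 h1))
    have h4 : ((2 : ℤ) : F) * u = (u + 1) ^ 2 - u ^ 2 - 1 := by push_cast; ring
    rw [h4]
    exact A.sub_mem (A.sub_mem h3 (hSA u hu)) h1

/-- general step -/
theorem pk_of_par {hD : InList D} {isL : ℕ → Bool} (T : HiP D isL) {H : Subgroup (GL D.Idx F)} [Finite H]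
    (h1 : HasOne hD H) {s₀ : ℕ} (hrefl : ∀ s < D.nroots, (!isL s) = true → ∀ i < D.rank, (!isL (D.reflectRoot i s)) = true)
    (hdom : ∀ s < D.nroots, (!isL s) = true → s ≠ s₀ → ∃ i < D.rank, D.cartan i s < 0)
    (K : Subfield F) (hK : ∀ t : F, t ∈ K ↔ t ∈ par hD H (top D))
    (hAS : ∀ t ∈ par hD H (top D), t ∈ par hD H s₀) (hSA : ∀ t ∈ par hD H s₀, t ∈ par hD H (top D)) : PK hD H := by
  refine ⟨K, fun s hs t => ?_⟩
  rw [hK, ← mem_par]
  by_cases hL : isL s = true
  · rw [par_long h1 T hs hL]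
  · rw [par_dom h1 (P := fun s => !isL s) hrefl hdom hs (by simpa using hL)]
    exact ⟨hSA t, hAS t⟩

theorem f4_refl : ∀ s < chevF4.nroots, (!longF4 s) = true → ∀ i < chevF4.rank, (!longF4 (chevF4.reflectRoot i s)) = true := by
  decide +kernel

theorem f4_dom : ∀ s < chevF4.nroots, (!longF4 s) = true → s ≠ 44 → ∃ i < chevF4.rank, chevF4.cartan i s < 0 := by
  decide +kernel

theorem b2_refl : ∀ s < chevB2.nroots, (!longB2 s) = true → ∀ i < chevB2.rank, (!longB2 (chevB2.reflectRoot i s)) = true := by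
  decide +kernel

theorem b2_dom : ∀ s < chevB2.nroots, (!longB2 s) = true → s ≠ 6 → ∃ i < chevB2.rank, chevB2.cartan i s < 0 := by
  decide +kernel

theorem g2_refl : ∀ s < chevG2.nroots, (!longG2 s) = true → ∀ i < chevG2.rank, (!longG2 (chevG2.reflectRoot i s)) = true := by
  decide +kernel

theorem g2_dom : ∀ s < chevG2.nroots, (!longG2 s) = true → s ≠ 9 → ∃ i < chevG2.rank, chevG2.cartan i s < 0 := by
  decide +kernel

theorem pk_F4 (p : ℕ) [Fact p.Prime] [CharP F p] {H : Subgroup (GL chevF4.Idx F)} [Finite H] (h1 : HasOne inF4 H) :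
    PK inF4 H := by
  obtain ⟨K, hK⟩ := exists_field_long h1 hpF4 (hiM_of hmF4)
  have hK' : ∀ t : F, t ∈ K ↔ t ∈ par inF4 H (top chevF4) := fun t => (hK _ (top_lt inF4) (by decide +kernel) t).symm
  have hl : ∀ s < chevF4.nroots, longF4 s = true → par inF4 H s = par inF4 H (top chevF4) := fun s hs hL =>
    par_long h1 hpF4 hs hL
  have hsh : ∀ s < chevF4.nroots, (!longF4 s) = true → par inF4 H s = par inF4 H 44 := fun s hs hL =>
    par_dom h1 (P := fun s => !longF4 s) f4_refl f4_dom hs hL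
  have h2 := short_long h1 (r := 29) (s := 0) (g := 3) (l := 6) (c := 1) (c' := 1) (by decide) (by decide)
    (by decide) (by decide +kernel) (Or.inl rfl) (Or.inl rfl) (by decide +kernel)
    ((hl 6 (by decide) (by decide)).trans (hl 0 (by decide) (by decide)).symm)
    ((hsh 3 (by decide) (by decide)).trans (hsh 29 (by decide) (by decide)).symm)
  rw [hl 0 (by decide) (by decide), hsh 29 (by decide) (by decide)] at h2
  have hfin : Finite (par inF4 H 44) := par_finite (by decide)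
  exact pk_of_par hpF4 h1 f4_refl f4_dom K hK' h2.1 (eq_of_sq (p := p) h2.1 h2.2 (h1.one_mem (top_lt inF4)))

/-- algebra for `B₂`, `p` odd -/
theorem sq_closed {p : ℕ} [Fact p.Prime] [CharP F p] (hp : p ≠ 2) {A : AddSubgroup F}
    (h : ∀ a ∈ A, a ^ 2 ∈ A) : ∀ a ∈ A, ∀ b ∈ A, a * b ∈ A := by
  intro a ha b hb
  have h2F : ((2 : ℤ) : F) ≠ 0 := by
    intro h
    have h3 : ((2 : ℕ) : F) = 0 := by push_cast at h ⊢; exact h
    rw [CharP.cast_eq_zero_iff F p] at h3
    exact hp ((Nat.prime_dvd_prime_iff_eq Fact.out Nat.prime_two).1 h3)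
  refine of_int_mul (p := p) A h2F ?_
  have h4 : ((2 : ℤ) : F) * (a * b) = (a + b) ^ 2 - a ^ 2 - b ^ 2 := by push_cast; ring
  rw [h4]
  exact A.sub_mem (A.sub_mem (h _ (A.add_mem ha hb)) (h a ha)) (h b hb)

/-- `B₂`, `p` odd -/
theorem pk_B2_odd (p : ℕ) [Fact p.Prime] [CharP F p] (hp : p ≠ 2) {H : Subgroup (GL chevB2.Idx F)} [Finite H]
    (h1 : HasOne inB2 H) : PK inB2 H := by
  have hl : ∀ s < chevB2.nroots, longB2 s = true → par inB2 H s = par inB2 H (top chevB2) := fun s hs hL =>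
    par_long h1 hpB2 hs hL
  have hsh : ∀ s < chevB2.nroots, (!longB2 s) = true → par inB2 H s = par inB2 H 6 := fun s hs hL =>
    par_dom h1 (P := fun s => !longB2 s) b2_refl b2_dom hs hL
  have h2 := short_long h1 (r := 5) (s := 4) (g := 6) (l := 7) (c := 1) (c' := -1) (by decide) (by decide)
    (by decide) (by decide +kernel) (Or.inl rfl) (Or.inr rfl) (by decide +kernel)
    ((hl 7 (by decide) (by decide)).trans (hl 4 (by decide) (by decide)).symm)
    ((hsh 6 (by decide) (by decide)).trans (hsh 5 (by decide) (by decide)).symm)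
  rw [hl 4 (by decide) (by decide), hsh 5 (by decide) (by decide)] at h2
  have hfin : Finite (par inB2 H 6) := par_finite (by decide)
  have hfin' : Finite (par inB2 H (top chevB2)) := par_finite (top_lt inB2)
  have h3 := eq_of_sq (p := p) h2.1 h2.2 (h1.one_mem (top_lt inB2))
  obtain ⟨K, hK⟩ := exists_subfield (par inB2 H (top chevB2)) (h1.one_mem (top_lt inB2))
    (sq_closed (p := p) hp fun a ha => h2.2 a (h2.1 a ha))
  exact pk_of_par hpB2 h1 b2_refl b2_dom K hK h2.1 h3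

end Cfsg.Agent.H86.Par
end

-- part: H86/FieldG
section
/-!
# The subfield of all parameters of root elements: `G₂`
-/

set_option autoImplicit false
set_option maxHeartbeats 0

namespace Cfsg.Agent.H86.Par

open Cfsg.Lie Cfsg.Agent.ChevalleyStructure Cfsg.Agent.ChevalleyStructure.RootCombGood
  Cfsg.Agent.ChevalleyStructure.RootWord Cfsg.Agent.ChevalleyStructure.RootVec
  Cfsg.Agent.ChevalleyStructure.RootVecTab Cfsg.Agent.ChevalleyStructure.RootSupport
  Cfsg.Agent.ChevalleyStructure.Elts Cfsg.Agent.ChevalleyStructure.BruhatSplit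
  Cfsg.Agent.H86.Lev Cfsg.Agent.H86.Graded Cfsg.Agent.H92.ChevCent Cfsg.Agent.H92.ChevFrob
  Cfsg.Agent.LieClassical.SLTwoUnipotent

universe u

variable {D : ChevalleyDatum} {F : Type u} [Field F]

theorem eq_of_frob {p : ℕ} [Fact p.Prime] [CharP F p] {A S : AddSubgroup F} [Finite S] (hAS : ∀ t ∈ A, t ∈ S)
    (hSA : ∀ u ∈ S, u ^ p ∈ A) : ∀ u ∈ S, u ∈ A := by
  have hfin : Finite A := Finite.of_injective (fun a : A => (⟨a.1, hAS a.1 a.2⟩ : S)) fun a b h =>
    Subtype.ext (congrArg (fun z : S => (z : F)) h)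
  have hinj : Function.Injective (fun u : S => (⟨u.1 ^ p, hSA u.1 u.2⟩ : A)) := by
    intro a b h
    have h2 : (a.1 : F) ^ p = b.1 ^ p := congrArg Subtype.val h
    apply Subtype.ext
    have h3 : ((a.1 : F) - b.1) ^ p = 0 := by
      rw [sub_pow_char_of_commute (p := p) (h := Commute.all _ _), h2, sub_self]
    exact sub_eq_zero.1 (pow_eq_zero_iff (Fact.out : p.Prime).ne_zero |>.1 h3)
  have hcard : Nat.card S ≤ Nat.card A := Nat.card_le_card_of_injective _ hinj
  intro u hu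
  by_contra hu'
  have h3 : Nat.card A < Nat.card S := by
    have hle : A ≤ S := hAS
    have h4 : A < S := lt_of_le_of_ne hle (by rintro rfl; exact hu' hu)
    have h5 : (A : Set F) ⊂ (S : Set F) := h4
    exact Set.ncard_lt_ncard h5 (Set.toFinite _)
  omega

theorem hG_mem (hD : InList D) {H : Subgroup (GL D.Idx F)} (h1 : HasOne hD H) {r : ℕ} (hr : r < D.nroots) {c : F}
    (hc : xG hD r c ∈ H) (hc' : xG hD (D.neg r) (-c⁻¹) ∈ H) : hG hD r c ∈ H := by
  have h2 : nG hD r c ∈ H := by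
    rw [nG_def]
    exact H.mul_mem hc (H.mul_mem hc' hc)
  have h3 : nG hD r (-1 : F) ∈ H := by
    rw [nG_def]
    have e : xG hD (D.neg r) (-(-1 : F)⁻¹) ∈ H := by
      have : (-(-1 : F)⁻¹) = 1 := by norm_num
      rw [this]
      exact h1 _ (RootWord.neg_lt (good hD) hr)
    have e' : xG hD r (-1 : F) ∈ H := by
      rw [← xG_inv]; exact H.inv_mem (h1 r hr)
    exact H.mul_mem e' (H.mul_mem e e')
  rw [hG_def]
  exact H.mul_mem h2 h3

theorem pk_G2 (p : ℕ) [Fact p.Prime] [CharP F p] {H : Subgroup (GL chevG2.Idx F)} [Finite H] (h1 : HasOne inG2 H) :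
    PK inG2 H := by
  obtain ⟨K, hK⟩ := exists_field_long h1 hpG2 (hiM_of hmG2)
  have hK' : ∀ t : F, t ∈ K ↔ t ∈ par inG2 H (top chevG2) := fun t => (hK _ (top_lt inG2) (by decide +kernel) t).symm
  have hl : ∀ s < chevG2.nroots, longG2 s = true → par inG2 H s = par inG2 H (top chevG2) := fun s hs hL =>
    par_long h1 hpG2 hs hL
  have hsh : ∀ s < chevG2.nroots, (!longG2 s) = true → par inG2 H s = par inG2 H 9 := fun s hs hL =>
    par_dom h1 (P := fun s => !longG2 s) g2_refl g2_dom hs hL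
  have hfin : Finite (par inG2 H 9) := par_finite (by decide)
  have hone : (1 : F) ∈ par inG2 H 9 := h1.one_mem (by decide)
  -- torus
  have hKS : ∀ c ∈ K, ∀ u ∈ par inG2 H 9, c * u ∈ par inG2 H 9 := by
    intro c hc u hu
    by_cases hc0 : c = 0
    · rw [hc0, zero_mul]; exact zero_mem _
    · have hci : c⁻¹ ∈ K := K.inv_mem hc
      have hci0 : c⁻¹ ≠ 0 := inv_ne_zero hc0
      have hh : hG inG2 (chevG2.simple 1) c⁻¹ ∈ H := by
        have e6 : chevG2.simple 1 = 6 := by decide +kernel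
        rw [e6]
        refine hG_mem inG2 h1 (by decide) ((hK 6 (by decide) (by decide) _).2 hci) ?_
        rw [inv_inv]
        exact (hK (chevG2.neg 6) (by decide) (by decide) _).2 (K.neg_mem hc)
      have hu7 : xG inG2 7 u ∈ H := by
        rw [← mem_par, hsh 7 (by decide) (by decide)]; exact hu
      have e1 : hG inG2 (chevG2.simple 1) c⁻¹ * xG inG2 7 u = xG inG2 7 (c * u) * hG inG2 (chevG2.simple 1) c⁻¹ := by
        have h3 : (c⁻¹ : F) ^ (chevG2.cartan 1 7) = c := by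
          rw [show chevG2.cartan 1 7 = -1 by decide +kernel, zpow_neg_one, inv_inv]
        have h4 := Cfsg.Agent.S1032.result (F := F) chevG2 inG2 1 7 (by decide) (by decide) c⁻¹ hci0 u
        rw [h3] at h4
        apply Units.ext
        rw [Units.val_mul, Units.val_mul, coe_hG, coe_xG, coe_xG]
        exact h4
      have h5 : xG inG2 7 (c * u) ∈ H := by
        have : xG inG2 7 (c * u) = hG inG2 (chevG2.simple 1) c⁻¹ * xG inG2 7 u * (hG inG2 (chevG2.simple 1) c⁻¹)⁻¹ := by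
          rw [e1]; group
        rw [this]
        exact H.mul_mem (H.mul_mem hh hu7) (H.inv_mem hh)
      rw [← mem_par, hsh 7 (by decide) (by decide)] at h5
      exact h5
  have hAS : ∀ t ∈ par inG2 H (top chevG2), t ∈ par inG2 H 9 := by
    intro t ht
    have := hKS t ((hK' t).2 ht) 1 hone
    rwa [mul_one] at this
  have hmem : ∀ {s : ℕ} {u : F}, s < chevG2.nroots → (!longG2 s) = true → u ∈ par inG2 H 9 → xG inG2 s u ∈ H := by
    intro s u hs hL hu
    rw [← mem_par, hsh s hs hL]; exact hu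
  refine pk_of_par hpG2 h1 g2_refl g2_dom K hK' hAS ?_
  by_cases hp : p = 3
  · subst hp
    have hmul : ∀ u ∈ par inG2 H 9, ∀ w ∈ par inG2 H 9, u * w ∈ par inG2 H 9 := by
      intro u hu w hw
      have h2 := comm_red inG2 3 (r := 8) (s := 7) (by decide) (by decide) (by decide) (by decide) u w
      rw [show red chevG2 3 8 7 = [(9, 2, 1, 1)] by decide +kernel] at h2
      simp only [List.map_cons, List.map_nil, wordG_cons, wordG_nil, mul_one, pow_one] at h2
      have h3 := mem_of_comm (H := H) (hmem (s := 8) (by decide) (by decide) hu)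
        (hmem (s := 7) (by decide) (by decide) hw) h2
      rw [← mem_par] at h3
      have h4 : ((-2 : ℤ) : F) * (u * w) ∈ par inG2 H 9 := by
        have : ((-2 : ℤ) : F) * (u * w) = ((2 : ℤ) : F) * (-u) * w := by push_cast; ring
        rw [this]; exact h3
      refine of_int_mul (p := 3) _ ?_ h4
      intro h0
      rw [CharP.intCast_eq_zero_iff F 3] at h0
      norm_num at h0
    refine eq_of_frob (p := 3) hAS fun u hu => ?_
    have h2 := UnipProd.xG_comm inG2 (r := 6) (s := 7) (by decide) (by decide) (by decide) (by decide) (1 : F) u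
    have hw : wordG inG2 (chevG2.commWord F 6 7 (1 : F) u) = xG inG2 8 (-u) * (xG inG2 9 (-(u * u)) *
        (xG inG2 10 (u ^ 3) * xG inG2 11 (-2 * u ^ 3))) := by
      unfold ChevalleyDatum.commWord
      rw [show chevG2.commTerms 6 7 = [(8, 1, 1, 1), (9, 1, 1, 2), (10, -1, 1, 3), (11, -2, 2, 3)] by decide +kernel]
      simp only [List.map_cons, List.map_nil, wordG_cons, wordG_nil, mul_one]
      congr 1
      · congr 1; push_cast; ring
      · congr 1
        · congr 1; push_cast; ring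
        · congr 1
          · congr 1; push_cast; ring
          · congr 1; push_cast; ring
    rw [hw] at h2
    have h3 := mem_of_comm (H := H) (h1 6 (by decide)) (hmem (s := 7) (by decide) (by decide) hu) h2
    have h8 : xG inG2 8 (-u) ∈ H := hmem (by decide) (by decide) (neg_mem hu)
    have h9 : xG inG2 9 (-(u * u)) ∈ H := hmem (by decide) (by decide) (neg_mem (hmul u hu u hu))
    have h4 := (H.mul_mem_cancel_left h9).1 ((H.mul_mem_cancel_left h8).1 h3)
    have h5 := UnipProd.xG_comm inG2 (r := 10) (s := 6) (by decide) (by decide) (by decide) (by decide) (u ^ 3) (1 : F)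
    have hw5 : wordG inG2 (chevG2.commWord F 10 6 (u ^ 3) (1 : F)) = xG inG2 11 (u ^ 3) := by
      unfold ChevalleyDatum.commWord
      rw [show chevG2.commTerms 10 6 = [(11, -1, 1, 1)] by decide +kernel]
      simp only [List.map_cons, List.map_nil, wordG_cons, wordG_nil, mul_one]
      congr 1; push_cast; ring
    rw [hw5] at h5
    have hc11 : ∀ z : F, xG inG2 6 1 * xG inG2 11 z = xG inG2 11 z * xG inG2 6 1 := fun z =>
      comm_top0 inG2 (r := 6) (by decide) (by decide +kernel) 1 z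
    have hc11' : ∀ z : F, xG inG2 11 (u ^ 3) * xG inG2 11 z = xG inG2 11 z * xG inG2 11 (u ^ 3) := fun z => by
      rw [xG_add, xG_add, add_comm]
    have h6 : xG inG2 6 1 * (xG inG2 10 (u ^ 3) * xG inG2 11 (-2 * u ^ 3)) =
        (xG inG2 10 (u ^ 3) * xG inG2 11 (-2 * u ^ 3)) * xG inG2 6 1 * xG inG2 11 (u ^ 3) := by
      calc xG inG2 6 1 * (xG inG2 10 (u ^ 3) * xG inG2 11 (-2 * u ^ 3))
          = (xG inG2 6 1 * xG inG2 10 (u ^ 3)) * xG inG2 11 (-2 * u ^ 3) := by group
        _ = xG inG2 10 (u ^ 3) * xG inG2 6 1 * (xG inG2 11 (u ^ 3) * xG inG2 11 (-2 * u ^ 3)) := by rw [h5]; group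
        _ = xG inG2 10 (u ^ 3) * (xG inG2 6 1 * xG inG2 11 (-2 * u ^ 3)) * xG inG2 11 (u ^ 3) := by rw [hc11']; group
        _ = _ := by rw [hc11]; group
    have h7 := mem_of_comm (H := H) h4 (h1 6 (by decide)) h6
    exact h7
  · intro u hu
    have h2 := UnipProd.xG_comm inG2 (r := 9) (s := 7) (by decide) (by decide) (by decide) (by decide) u (1 : F)
    have hw : wordG inG2 (chevG2.commWord F 9 7 u (1 : F)) = xG inG2 10 (((3 : ℤ) : F) * u) := by
      unfold ChevalleyDatum.commWord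
      rw [show chevG2.commTerms 9 7 = [(10, -3, 1, 1)] by decide +kernel]
      simp only [List.map_cons, List.map_nil, wordG_cons, wordG_nil, mul_one]
      congr 1; push_cast; ring
    rw [hw] at h2
    have h3 := mem_of_comm (H := H) (hmem (s := 9) (by decide) (by decide) hu) (h1 7 (by decide)) h2
    rw [← mem_par, hl 10 (by decide) (by decide)] at h3
    refine of_int_mul (p := p) _ ?_ h3
    exact int_ne (p := p) (q := 3) Nat.prime_three hp (Or.inr (Or.inr (Or.inl rfl)))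

end Cfsg.Agent.H86.Par
end

-- part: H86/FieldB
section
/-!
# The subfield of all parameters of root elements: `B₂`, characteristic two
-/

set_option autoImplicit false
set_option maxHeartbeats 0

namespace Cfsg.Agent.H86.Par

open Cfsg.Lie Cfsg.Agent.ChevalleyStructure Cfsg.Agent.ChevalleyStructure.RootCombGood
  Cfsg.Agent.ChevalleyStructure.RootWord Cfsg.Agent.ChevalleyStructure.RootVec
  Cfsg.Agent.ChevalleyStructure.RootVecTab Cfsg.Agent.ChevalleyStructure.RootSupport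
  Cfsg.Agent.ChevalleyStructure.Elts Cfsg.Agent.ChevalleyStructure.BruhatSplit
  Cfsg.Agent.H86.Lev Cfsg.Agent.H86.Graded Cfsg.Agent.H92.ChevCent Cfsg.Agent.H92.ChevFrob
  Cfsg.Agent.LieClassical.SLTwoUnipotent

universe u

variable {F : Type u} [Field F]

/-- algebra -/
theorem alg2 [CharP F 2] (R : AddSubgroup (F × F)) [Finite R] (h10 : ((1 : F), (0 : F)) ∈ R)
    (h01 : ((0 : F), (1 : F)) ∈ R) (M1 : ∀ u v : F, (u, v) ∈ R → (u, u ^ 2) ∈ R)
    (M4 : ∀ u v w y : F, (u, v) ∈ R → (w, y) ∈ R → (w * v, w ^ 2 * v) ∈ R) :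
    ∃ K : Subfield F, ∀ u v : F, (u, v) ∈ R ↔ u ∈ K ∧ v ∈ K := by
  have : Fact (Nat.Prime 2) := ⟨Nat.prime_two⟩
  -- the projections
  obtain ⟨U, hU⟩ : ∃ U : AddSubgroup F, ∀ u : F, u ∈ U ↔ ∃ v : F, (u, v) ∈ R :=
    ⟨R.map (AddMonoidHom.fst F F), fun u => by
      rw [AddSubgroup.mem_map]
      constructor
      · rintro ⟨⟨a, b⟩, hab, rfl⟩; exact ⟨b, hab⟩
      · rintro ⟨v, hv⟩; exact ⟨(u, v), hv, rfl⟩⟩
  obtain ⟨V, hV⟩ : ∃ V : AddSubgroup F, ∀ v : F, v ∈ V ↔ ∃ u : F, (u, v) ∈ R :=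
    ⟨R.map (AddMonoidHom.snd F F), fun v => by
      rw [AddSubgroup.mem_map]
      constructor
      · rintro ⟨⟨a, b⟩, hab, rfl⟩; exact ⟨a, hab⟩
      · rintro ⟨u, hu⟩; exact ⟨(u, v), hu, rfl⟩⟩
  have hUfin : Finite U := by
    choose g hg using fun u : U => (hU u).1 u.2
    exact Finite.of_injective (fun u : U => (⟨(u.1, g u), hg u⟩ : R)) fun a b h =>
      Subtype.ext (congrArg (fun z : R => (z : F × F).1) h)
  have h1U : (1 : F) ∈ U := (hU 1).2 ⟨0, h10⟩
  have hVV : ∀ v ∈ V, (v, v) ∈ R := by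
    intro v hv
    obtain ⟨u, hu⟩ := (hV v).1 hv
    have := M4 u v 1 0 hu h10
    simpa using this
  have hVU : ∀ v ∈ V, v ∈ U := fun v hv => (hU v).2 ⟨v, hVV v hv⟩
  have hUU : ∀ u ∈ U, (u, u ^ 2) ∈ R := fun u hu => by
    obtain ⟨v, hv⟩ := (hU u).1 hu
    exact M1 u v hv
  have hUV : ∀ u ∈ U, u ∈ V := eq_of_frob (p := 2) hVU fun u hu => (hV _).2 ⟨u, hUU u hu⟩
  have hmul : ∀ a ∈ U, ∀ b ∈ U, a * b ∈ U := by
    intro a ha b hb
    obtain ⟨y, hy⟩ := (hU a).1 ha
    exact (hU _).2 ⟨_, M4 b b a y (hVV b (hUV b hb)) hy⟩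
  obtain ⟨K, hK⟩ := exists_subfield U h1U hmul
  -- `(0, v)`
  have hzero : ∀ u v v' : F, (u, v) ∈ R → (u, v') ∈ R → (0, v + v') ∈ R := by
    intro u v v' h h'
    have := R.add_mem h h'
    rw [Prod.mk_add_mk, CharTwo.add_self_eq_zero] at this
    exact this
  have hA : ∀ v ∈ K, (0, v) ∈ R := by
    have key : ∀ v ∈ U, ∀ w ∈ U, (0, (v + v ^ 2) * w ^ 2) ∈ R := by
      intro v hv w hw
      obtain ⟨y, hy⟩ := (hU w).1 hw
      have h2 := M4 v v w y (hVV v (hUV v hv)) hy
      have h3 := M1 _ _ h2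
      have h4 := hzero _ _ _ h2 h3
      have e : (v + v ^ 2) * w ^ 2 = w ^ 2 * v + (w * v) ^ 2 := by ring
      rw [e]; exact h4
    by_cases hall : ∀ v ∈ U, v + v ^ 2 = 0
    · intro v hv
      have h2 := hall v ((hK v).1 hv)
      have h3 : v * (v + 1) = 0 := by linear_combination h2
      rcases mul_eq_zero.1 h3 with h4 | h4
      · rw [h4]; exact R.zero_mem
      · have : v = 1 := by rw [← CharTwo.neg_eq (1 : F)]; exact eq_neg_of_add_eq_zero_left h4
        rw [this]; exact h01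
    · push Not at hall
      obtain ⟨v₀, hv₀, hc⟩ := hall
      have hcK : v₀ + v₀ ^ 2 ∈ K := K.add_mem ((hK _).2 hv₀) (K.pow_mem ((hK _).2 hv₀) 2)
      have hKfin : Finite K := Finite.of_injective (fun a : K => (⟨a.1, (hK _).1 a.2⟩ : U)) fun a b h =>
        Subtype.ext (congrArg (fun z : U => (z : F)) h)
      have hsurj : Function.Surjective (fun a : K => a ^ 2) := by
        refine Finite.surjective_of_injective fun a b h => ?_
        have h2 : (a - b) ^ 2 = 0 := by
          have h3 : (a : K) ^ 2 = b ^ 2 := h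
          rw [sub_pow_char_of_commute (p := 2) (h := Commute.all _ _), h3, sub_self]
        exact sub_eq_zero.1 (pow_eq_zero_iff two_ne_zero |>.1 h2)
      intro v hv
      obtain ⟨w, hw⟩ := hsurj ⟨v / (v₀ + v₀ ^ 2), K.div_mem hv hcK⟩
      have hw' : (w : F) ^ 2 = v / (v₀ + v₀ ^ 2) := congrArg Subtype.val hw
      have h2 := key v₀ hv₀ w ((hK _).1 w.2)
      rw [hw', mul_div_cancel₀ _ hc] at h2
      exact h2
  refine ⟨K, fun u v => ⟨fun h => ⟨(hK u).2 ((hU u).2 ⟨v, h⟩), (hK v).2 (hVU v ((hV v).2 ⟨u, h⟩))⟩, ?_⟩⟩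
  rintro ⟨hu, hv⟩
  have h2 := hUU u ((hK u).1 hu)
  have h3 := R.add_mem h2 (hA (u ^ 2 + v) (K.add_mem (K.pow_mem hu 2) hv))
  rw [Prod.mk_add_mk, add_zero, ← add_assoc, CharTwo.add_self_eq_zero, zero_add] at h3
  exact h3

/-- conjugation by `n_i` -/
theorem conj_nG_mem {D : ChevalleyDatum} (hD : InList D) {H : Subgroup (GL D.Idx F)} [CharP F 2] (h1 : HasOne hD H)
    {i r s r' s' : ℕ} (hi : i < D.rank) (hr : r < D.nroots) (hs : s < D.nroots) (er : D.reflectRoot i r = r')
    (es : D.reflectRoot i s = s') {t v : F} (h : xG hD r t * xG hD s v ∈ H) : xG hD r' t * xG hD s' v ∈ H := by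
  obtain ⟨η, hη, h2⟩ := MonomialNormal.xG_conj hD (SharpSign.sharp (F := F) hD) hi hr
  obtain ⟨η', hη', h3⟩ := MonomialNormal.xG_conj hD (SharpSign.sharp (F := F) hD) hi hs
  have e1 : ∀ x : F, (x = 1 ∨ x = -1) → x = 1 := by
    intro x hx
    rcases hx with h | h
    · exact h
    · rw [h, CharTwo.neg_eq]
  have h4 := (h2 t).1
  have h5 := (h3 v).1
  rw [er, e1 η hη, one_mul] at h4
  rw [es, e1 η' hη', one_mul] at h5
  have hn := h1.nG ((good hD).simple_lt hi)
  have : xG hD r' t * xG hD s' v = nG hD (D.simple i) 1 * (xG hD r t * xG hD s v) * (nG hD (D.simple i) 1)⁻¹ := by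
    rw [← h4, ← h5]; group
  rw [this]
  exact H.mul_mem (H.mul_mem hn h) (H.inv_mem hn)

theorem b2_c56 [CharP F 2] (t v : F) : xG inB2 5 v * xG inB2 6 t = xG inB2 6 t * xG inB2 5 v := by
  rw [comm_red inB2 2 (r := 6) (s := 5) (by decide) (by decide) (by decide) (by decide),
    show red chevB2 2 6 5 = [] by decide +kernel, List.map_nil, wordG_nil, mul_one]

theorem b2_c46 (t v : F) : xG inB2 4 v * xG inB2 6 t = xG inB2 6 t * xG inB2 4 v := by
  rw [UnipProd.xG_comm inB2 (by decide) (by decide) (by decide) (by decide)]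
  have : chevB2.commWord F 6 4 t v = [] := by
    unfold ChevalleyDatum.commWord
    rw [show chevB2.commTerms 6 4 = [] by decide +kernel]; rfl
  rw [this, wordG_nil, mul_one]

theorem b2_c54 [CharP F 2] (t v : F) : xG inB2 4 v * xG inB2 5 t = xG inB2 5 t * xG inB2 4 v *
    (xG inB2 6 (t * v) * xG inB2 7 (t ^ 2 * v)) := by
  rw [b2_comm54]
  congr 2
  · congr 1; push_cast; ring
  · congr 1; push_cast; rw [CharTwo.neg_eq, CharTwo.neg_eq]; ring

theorem b2_c36 [CharP F 2] (v : F) : xG inB2 6 v * xG inB2 3 1 = xG inB2 3 1 * xG inB2 6 v *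
    (xG inB2 5 v * xG inB2 7 (v ^ 2)) := by
  rw [comm_two inB2 (r := 6) (s := 3) (g := 5) (l := 7) (c := 1) (c' := 1) (by decide) (by decide) (by decide)
    (by decide) (by decide +kernel)]
  congr 2
  · congr 1; push_cast; rw [CharTwo.neg_eq]; ring
  · congr 1; push_cast; rw [CharTwo.neg_eq]; ring

theorem b2_c7 {s : ℕ} (hs : s < chevB2.nroots) (h0 : 0 ≤ car chevB2 (top chevB2) s) (t z : F) :
    xG inB2 s t * xG inB2 7 z = xG inB2 7 z * xG inB2 s t := comm_top0 inB2 hs h0 t z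

theorem b2_pairs [CharP F 2] {H : Subgroup (GL chevB2.Idx F)} [Finite H] (h1 : HasOne inB2 H) :
    ∃ K : Subfield F, ∀ u v : F, xG inB2 6 u * xG inB2 7 v ∈ H ↔ u ∈ K ∧ v ∈ K := by
  obtain ⟨R, hR⟩ : ∃ R : AddSubgroup (F × F), ∀ u v : F, (u, v) ∈ R ↔ xG inB2 6 u * xG inB2 7 v ∈ H :=
    ⟨{ carrier := {q | xG inB2 6 q.1 * xG inB2 7 q.2 ∈ H}
       zero_mem' := by
        show xG inB2 6 0 * xG inB2 7 0 ∈ H
        rw [xG_zero, xG_zero, mul_one]; exact H.one_mem
       add_mem' := by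
        rintro ⟨a, b⟩ ⟨c, d⟩ h h'
        show xG inB2 6 (a + c) * xG inB2 7 (b + d) ∈ H
        have e : xG inB2 6 (a + c) * xG inB2 7 (b + d) = (xG inB2 6 a * xG inB2 7 b) * (xG inB2 6 c * xG inB2 7 d) := by
          have h2 := b2_c7 (s := 6) (by decide) (by decide +kernel) c b
          calc xG inB2 6 (a + c) * xG inB2 7 (b + d) = xG inB2 6 a * (xG inB2 6 c * xG inB2 7 b) * xG inB2 7 d := by
                rw [← xG_add, ← xG_add]; group
            _ = _ := by rw [h2]; group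
        rw [e]; exact H.mul_mem h h'
       neg_mem' := by
        rintro ⟨a, b⟩ h
        show xG inB2 6 (-a) * xG inB2 7 (-b) ∈ H
        rw [CharTwo.neg_eq, CharTwo.neg_eq]; exact h }, fun u v => Iff.rfl⟩
  have hRfin : Finite R := by
    refine Finite.of_injective (fun q : R => (⟨xG inB2 6 q.1.1 * xG inB2 7 q.1.2, (hR _ _).1 q.2⟩ : H)) ?_
    intro q q' h
    have h2 : xG inB2 6 q.1.1 * xG inB2 7 q.1.2 = xG inB2 6 q'.1.1 * xG inB2 7 q'.1.2 := congrArg Subtype.val h
    have h3 : xG inB2 6 (-q'.1.1 + q.1.1) = xG inB2 7 (q'.1.2 + -q.1.2) := by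
      rw [← xG_add, ← xG_add, ← xG_inv, ← xG_inv]
      calc (xG inB2 6 q'.1.1)⁻¹ * xG inB2 6 q.1.1
          = (xG inB2 6 q'.1.1)⁻¹ * (xG inB2 6 q.1.1 * xG inB2 7 q.1.2) * (xG inB2 7 q.1.2)⁻¹ := by group
        _ = _ := by rw [h2]; group
    have h4 : -q'.1.1 + q.1.1 = 0 := by
      by_contra hne
      exact absurd (eq_of_xG_eq inB2 (r := 6) (s := 7) (by decide) (by decide) hne h3) (by decide)
    rw [h4, xG_zero] at h3
    have h5 := (xG_eq_one_iff inB2 (r := 7) (by decide) _).1 h3.symm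
    apply Subtype.ext
    exact Prod.ext (by linear_combination h4) (by linear_combination -h5)
  suffices hex : ∃ K : Subfield F, ∀ u v : F, (u, v) ∈ R ↔ u ∈ K ∧ v ∈ K by
    obtain ⟨K, hK⟩ := hex
    exact ⟨K, fun u v => by rw [← hR, hK]⟩
  refine alg2 R ?_ ?_ ?_ ?_
  · rw [hR, xG_zero, mul_one]; exact h1 6 (by decide)
  · rw [hR, xG_zero, one_mul]; exact h1 7 (by decide)
  · intro u v h
    rw [hR] at h ⊢
    have e : xG inB2 6 u * xG inB2 7 v * xG inB2 3 1 = xG inB2 3 1 * (xG inB2 6 u * xG inB2 7 v) *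
        (xG inB2 5 u * xG inB2 7 (u ^ 2)) := by
      have h2 := b2_c7 (F := F) (s := 3) (by decide) (by decide +kernel) 1 v
      have h3 := b2_c7 (F := F) (s := 5) (by decide) (by decide +kernel) u v
      have h4 := b2_c7 (F := F) (s := 7) (by decide) (by decide +kernel) (u ^ 2) v
      calc xG inB2 6 u * xG inB2 7 v * xG inB2 3 1 = xG inB2 6 u * (xG inB2 7 v * xG inB2 3 1) := by group
        _ = (xG inB2 6 u * xG inB2 3 1) * xG inB2 7 v := by rw [← h2]; group
        _ = xG inB2 3 1 * xG inB2 6 u * (xG inB2 5 u * (xG inB2 7 (u ^ 2) * xG inB2 7 v)) := by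
            rw [b2_c36]; group
        _ = xG inB2 3 1 * xG inB2 6 u * ((xG inB2 5 u * xG inB2 7 v) * xG inB2 7 (u ^ 2)) := by rw [h4]; group
        _ = _ := by rw [h3]; group
    have h5 := mem_of_comm (H := H) (h1 3 (by decide)) h e
    exact conj_nG_mem inB2 h1 (i := 1) (by decide) (by decide) (by decide) (by decide +kernel) (by decide +kernel) h5
  · intro u v w y h h'
    rw [hR] at h h' ⊢
    have ha : xG inB2 6 u * xG inB2 4 v ∈ H :=
      conj_nG_mem inB2 h1 (i := 0) (by decide) (by decide) (by decide) (by decide +kernel) (by decide +kernel) h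
    have hb : xG inB2 5 w * xG inB2 7 y ∈ H :=
      conj_nG_mem inB2 h1 (i := 1) (by decide) (by decide) (by decide) (by decide +kernel) (by decide +kernel) h'
    have e : (xG inB2 6 u * xG inB2 4 v) * (xG inB2 5 w * xG inB2 7 y) =
        (xG inB2 5 w * xG inB2 7 y) * (xG inB2 6 u * xG inB2 4 v) * (xG inB2 6 (w * v) * xG inB2 7 (w ^ 2 * v)) := by
      have c47 := b2_c7 (F := F) (s := 4) (by decide) (by decide +kernel) v y
      have c67 := b2_c7 (F := F) (s := 6) (by decide) (by decide +kernel) u y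
      have c57 := b2_c7 (F := F) (s := 5) (by decide) (by decide +kernel) w y
      have c67' := b2_c7 (F := F) (s := 6) (by decide) (by decide +kernel) (w * v) y
      have c77 := b2_c7 (F := F) (s := 7) (by decide) (by decide +kernel) (w ^ 2 * v) y
      calc (xG inB2 6 u * xG inB2 4 v) * (xG inB2 5 w * xG inB2 7 y)
          = xG inB2 6 u * (xG inB2 4 v * xG inB2 5 w) * xG inB2 7 y := by group
        _ = (xG inB2 6 u * xG inB2 5 w) * xG inB2 4 v * xG inB2 6 (w * v) * (xG inB2 7 (w ^ 2 * v) *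
              xG inB2 7 y) := by rw [b2_c54]; group
        _ = xG inB2 5 w * xG inB2 6 u * xG inB2 4 v * (xG inB2 6 (w * v) * xG inB2 7 y) *
              xG inB2 7 (w ^ 2 * v) := by rw [← b2_c56, c77]; group
        _ = xG inB2 5 w * xG inB2 6 u * (xG inB2 4 v * xG inB2 7 y) * xG inB2 6 (w * v) *
              xG inB2 7 (w ^ 2 * v) := by rw [c67']; group
        _ = xG inB2 5 w * (xG inB2 6 u * xG inB2 7 y) * xG inB2 4 v * xG inB2 6 (w * v) *
              xG inB2 7 (w ^ 2 * v) := by rw [c47]; group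
        _ = _ := by rw [c67]; group
    exact mem_of_comm (H := H) hb ha e

/-- `B₂` -/
theorem pk_B2 (p : ℕ) [Fact p.Prime] [CharP F p] {H : Subgroup (GL chevB2.Idx F)} [Finite H]
    (h1 : HasOne inB2 H) : PK inB2 H := by
  by_cases hp : p = 2
  · subst hp
    obtain ⟨K, hK⟩ := b2_pairs h1
    have h7 : ∀ t : F, t ∈ K ↔ t ∈ par inB2 H (top chevB2) := by
      intro t
      have h2 := hK 0 t
      rw [xG_zero, one_mul] at h2
      rw [mem_par]
      exact ⟨fun h => h2.2 ⟨K.zero_mem, h⟩, fun h => (h2.1 h).2⟩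
    have h6 : ∀ t : F, t ∈ K ↔ t ∈ par inB2 H 6 := by
      intro t
      have h2 := hK t 0
      rw [xG_zero, mul_one] at h2
      rw [mem_par]
      exact ⟨fun h => h2.2 ⟨h, K.zero_mem⟩, fun h => (h2.1 h).1⟩
    exact pk_of_par hpB2 h1 b2_refl b2_dom K h7 (fun t ht => (h6 t).1 ((h7 t).2 ht))
      fun t ht => (h7 t).1 ((h6 t).2 ht)
  · exact pk_B2_odd p hp h1

end Cfsg.Agent.H86.Par
end
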